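import Cfsg.Agent.Lib.Lie.TwistPair
import Cfsg.Agent.Lib.Small.ChevAut.Position

/-!
Automorphisms of a twisted group can be moved by inner ones to fix its two maximal unipotent subgroups;
the order of the outer automorphism group in terms of the automorphisms doing so.
-/

set_option autoImplicit false
set_option synthInstance.maxHeartbeats 400000
set_option linter.style.haveILetI false

namespace Cfsg.Agent.Small.TwistAut

open Cfsg Cfsg.Lie Cfsg.Agent.Lie Matrix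
open scoped MatrixGroups

section Abstract

variable {G : Type*} [Group G] (U V : Subgroup G)

/-- The automorphisms fixing two subgroups. -/
def stab : Subgroup (MulAut G) where
  carrier := {θ | (∀ g, θ g ∈ U ↔ g ∈ U) ∧ ∀ g, θ g ∈ V ↔ g ∈ V}
  one_mem' := ⟨fun _ => Iff.rfl, fun _ => Iff.rfl⟩
  mul_mem' := fun {a b} ha hb => ⟨fun g => (ha.1 (b g)).trans (hb.1 g), fun g => (ha.2 (b g)).trans (hb.2 g)⟩
  inv_mem' := fun {a} ha => ⟨fun g => by
      conv_rhs => rw [← a.apply_symm_apply g]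
      exact (ha.1 _).symm, fun g => by
      conv_rhs => rw [← a.apply_symm_apply g]
      exact (ha.2 _).symm⟩

theorem mem_stab {θ : MulAut G} : θ ∈ stab U V ↔ (∀ g, θ g ∈ U ↔ g ∈ U) ∧ ∀ g, θ g ∈ V ↔ g ∈ V := Iff.rfl

variable [Finite G]

theorem mem_iff_of_le {θ : MulAut G} {K : Subgroup G} (h : ∀ g ∈ K, θ g ∈ K) (g : G) : θ g ∈ K ↔ g ∈ K := by
  refine ⟨fun hg => ?_, h g⟩
  let f : K → K := fun x => ⟨θ x, h x x.2⟩
  have hinj : Function.Injective f := fun a b e => Subtype.ext (θ.injective (congrArg Subtype.val e))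
  obtain ⟨⟨y, hy⟩, he⟩ := (Finite.injective_iff_surjective.1 hinj) ⟨θ g, hg⟩
  rwa [← θ.injective (congrArg Subtype.val he)]

theorem stab_of_le {θ : MulAut G} (hU : ∀ g ∈ U, θ g ∈ U) (hV : ∀ g ∈ V, θ g ∈ V) : θ ∈ stab U V :=
  ⟨mem_iff_of_le hU, mem_iff_of_le hV⟩

omit [Finite G] in
/-- The order of the outer automorphism group. -/
theorem card_out (H : Subgroup G) (hc : Subgroup.center G = ⊥)
    (hstd : ∀ θ : MulAut G, ∃ x : G, (MulAut.conj x)⁻¹ * θ ∈ stab U V)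
    (hH : ∀ x : G, MulAut.conj x ∈ stab U V ↔ x ∈ H) :
    Nat.card (Cfsg.Out G) * Nat.card H = Nat.card (stab U V) := by
  set f : stab U V →* Cfsg.Out G := (QuotientGroup.mk' (Cfsg.Inn G)).comp (stab U V).subtype with hf
  have hsurj : Function.Surjective f := by
    intro y
    obtain ⟨θ, rfl⟩ := QuotientGroup.mk'_surjective _ y
    obtain ⟨x, hx⟩ := hstd θ
    refine ⟨⟨_, hx⟩, ?_⟩
    show QuotientGroup.mk' _ ((MulAut.conj x)⁻¹ * θ) = _
    rw [map_mul, show QuotientGroup.mk' (Cfsg.Inn G) (MulAut.conj x)⁻¹ = 1 from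
      (QuotientGroup.eq_one_iff _).2 (inv_mem ⟨x, rfl⟩), one_mul]
  have hker : Nat.card H = Nat.card f.ker := by
    refine Nat.card_eq_of_bijective (fun h => ⟨⟨MulAut.conj h.1, (hH _).2 h.2⟩,
      (QuotientGroup.eq_one_iff _).2 ⟨h.1, rfl⟩⟩) ⟨fun a b e => ?_, fun θ => ?_⟩
    · have e1 : MulAut.conj a.1 = MulAut.conj b.1 := congrArg (fun z : f.ker => z.1.1) e
      have e2 : b.1⁻¹ * a.1 ∈ Subgroup.center G := by
        rw [Subgroup.mem_center_iff]
        intro g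
        have := congrArg (fun z : MulAut G => z g) e1
        simp only [MulAut.conj_apply] at this
        calc g * (b.1⁻¹ * a.1) = b.1⁻¹ * (b.1 * g * b.1⁻¹) * a.1 := by group
          _ = _ := by rw [← this]; group
      rw [hc, Subgroup.mem_bot, inv_mul_eq_one] at e2
      exact Subtype.ext e2.symm
    · obtain ⟨⟨θ, hθ⟩, hk⟩ := θ
      obtain ⟨x, rfl⟩ := (QuotientGroup.eq_one_iff _).1 hk
      exact ⟨⟨x, (hH x).1 hθ⟩, rfl⟩
  rw [hker, ← Nat.card_congr (QuotientGroup.quotientKerEquivOfSurjective f hsurj).toEquiv,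
    ← Subgroup.card_eq_card_quotient_mul_card_subgroup]

end Abstract

theorem card_subgroupOf {G : Type*} [Group G] (K H : Subgroup G) :
    Nat.card (K.subgroupOf H) = Nat.card ↥(K ⊓ H) := by
  rw [← Subgroup.inf_subgroupOf_right]
  exact Nat.card_congr (Subgroup.subgroupOfEquivOfLe inf_le_right).toEquiv

variable {D : ChevalleyDatum} {F : Type*} [Field F] {hF : Facts D}

theorem conj_up (hF : Facts D) {a : GL D.Idx F} (ha : a ∈ (hF.tsys F).H) (w : hF.weyl) {L : List ℕ}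
    {K : Subgroup (GL D.Idx F)}
    (h : ∀ s ∈ L, ∃ h : s < D.nroots, ∀ u : F, hF.xg (w • (⟨s, h⟩ : Fin D.nroots) : Fin D.nroots).val u ∈ K)
    {y : GL D.Idx F} (hy : y ∈ (hF.tsys F).US L) :
    a * (hF.tsys F).nW w * y * (a * (hF.tsys F).nW w)⁻¹ ∈ K := by
  have key : (hF.tsys F).US L ≤ K.comap (MulAut.conj (a * (hF.tsys F).nW w)).toMonoidHom := by
    refine CommSys.US_le _ fun s hs t => ?_
    obtain ⟨h1, h2⟩ := h s hs
    obtain ⟨e, -, he⟩ := hF.nW_conj (F := F) w ⟨s, h1⟩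
    obtain ⟨u, hu⟩ := ((hF.tsys F).H_conj_X ha (w • ⟨s, h1⟩ : Fin D.nroots).isLt (e * t)).1
    show a * (hF.tsys F).nW w * (hF.tsys F).x s t * (a * (hF.tsys F).nW w)⁻¹ ∈ K
    rw [hF.tsys_x, show a * (hF.tsys F).nW w * hF.xg s t * (a * (hF.tsys F).nW w)⁻¹ =
      a * ((hF.tsys F).nW w * hF.xg s t * ((hF.tsys F).nW w)⁻¹) * a⁻¹ by group,
      show (hF.tsys F).nW w * hF.xg s t * ((hF.tsys F).nW w)⁻¹ = _ from he t, ← hF.tsys_x, hu, hF.tsys_x]
    exact h2 u
  exact key hy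

theorem eq_w0 {w : hF.weyl} (h : ∀ r : Fin D.nroots, r ∈ hF.refSys.P → w • r ∉ hF.refSys.P) :
    w = ChevAut.w0 hF := by
  have hfix : ∀ r, r ∈ hF.refSys.P → (ChevAut.w0 hF * w) • r ∈ hF.refSys.P := fun r hr => by
    rw [mul_smul]
    exact ChevAut.w0_neg hF (h r hr)
  have h1 : ChevAut.w0 hF * w = 1 := hF.refSys.eq_one_of_len_eq_zero
    (Finset.card_eq_zero.2 (Finset.eq_empty_iff_forall_notMem.2 fun r hr =>
      ((RefSystem.mem_inv _).1 hr).2 (hfix r ((RefSystem.mem_inv _).1 hr).1)))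
  rw [← ChevAut.w0_inv hF]
  exact eq_inv_of_mul_eq_one_right h1

section Tw

variable [Finite F] {T : Twist hF F} {Os : List (List (Fin D.rank))} (X : TwData T Os)

/-- The positive unipotent subgroup of a twisted group. -/
def U1 : Subgroup ↥X.G1 := (D.posUnipotent F).subgroupOf X.G1

/-- The negative unipotent subgroup of a twisted group. -/
def V1 : Subgroup ↥X.G1 := (D.negUnipotent F).subgroupOf X.G1

/-- The torus of a twisted group. -/
def H1 : Subgroup ↥X.G1 := (D.diagonalSubgroup F).subgroupOf X.G1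

/-- The root group of an orbit. -/
noncomputable def Xo (ω : List (Fin D.rank)) : Subgroup ↥X.G1 :=
  ((hF.tsys F).US (orbL D (ω.map Fin.val))).subgroupOf X.G1

/-- The root group of the negative of an orbit. -/
noncomputable def Yo (ω : List (Fin D.rank)) : Subgroup ↥X.G1 :=
  ((hF.tsys F).US (Twist.negL D ω)).subgroupOf X.G1

theorem mem_U1 {g : ↥X.G1} : g ∈ U1 X ↔ (g : GL D.Idx F) ∈ D.posUnipotent F := Iff.rfl

theorem mem_V1 {g : ↥X.G1} : g ∈ V1 X ↔ (g : GL D.Idx F) ∈ D.negUnipotent F := Iff.rfl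

include X in
theorem simple_mem_orbL {ω : List (Fin D.rank)} (hω : ω ∈ Os) {i : Fin D.rank} (hi : i ∈ ω) :
    D.simple i.val ∈ orbL D (ω.map Fin.val) :=
  (T.orbL_iff X.hOs hω (hF.simple_lt i i.isLt) (hF.simple_ge i i.isLt)).2
    ((hF.inRootSub_simple (nodeSet ω) i.isLt).2 (List.mem_map.2 ⟨i, hi, rfl⟩))

omit [Finite F] in
theorem orbL_mem_U {ω : List (Fin D.rank)} {x : GL D.Idx F}
    (hx : x ∈ (hF.tsys F).US (orbL D (ω.map Fin.val))) : x ∈ D.posUnipotent F := by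
  rw [← hF.tsys_U]
  exact CommSys.US_mono _ (fun r hr => (List.mem_filter.1 hr).1) hx

theorem card_Xo {ω : List (Fin D.rank)} (hω : ω ∈ Os) :
    Nat.card (Xo X ω) ^ X.d = X.q ^ (orbL D (ω.map Fin.val)).length := by
  rw [Xo, card_subgroupOf, le_antisymm (inf_le_inf_left _ X.le_fix)
    (le_inf inf_le_left (X.orb_le ω hω)), X.orb_card ω hω]

variable (hq : 2 ≤ X.q)

include hq

theorem exists_ne_one {ω : List (Fin D.rank)} (hω : ω ∈ Os) :
    ∃ x : ↥X.G1, x ∈ Xo X ω ∧ x ≠ 1 := by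
  by_contra h
  simp only [not_exists, not_and, not_not] at h
  have h1 := card_Xo X hω
  rw [show Xo X ω = ⊥ from (Subgroup.eq_bot_iff_forall _).2 h, Subgroup.card_bot, one_pow] at h1
  have h2 : 0 < (orbL D (ω.map Fin.val)).length := List.length_pos_of_ne_nil (T.orbL_ne_nil X.hOs hω)
  have := Nat.one_lt_pow h2.ne' hq
  omega

/-- A monomial element whose conjugate of U meets U trivially is the longest one. -/
theorem longest_of_meet {w : hF.weyl} (hw : T.PiFix w) {a : GL D.Idx F} (ha : a ∈ (hF.tsys F).H)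
    (h : ∀ z ∈ U1 X, a * (hF.tsys F).nW w * (z : GL D.Idx F) * (a * (hF.tsys F).nW w)⁻¹ ∈ D.posUnipotent F →
      z = 1) : w = ChevAut.w0 hF := by
  by_contra hne
  have hne' : ChevAut.w0 hF * w ≠ 1 := fun e => hne (by
    rw [← ChevAut.w0_inv hF]; exact eq_inv_of_mul_eq_one_right e)
  obtain ⟨i, hi⟩ := Twist.exists_descent hne'
  have hi' : w • hF.refSys.α i ∈ hF.refSys.P := by
    by_contra hc
    exact hi (by rw [mul_smul]; exact ChevAut.w0_neg hF hc)
  obtain ⟨ω, hω, hiω⟩ := T.exists_orbit X.hOs i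
  rcases X.orbit_sign hω hw with hneg | hpos
  · exact hneg _ _ (simple_mem_orbL X hω hiω) hi'
  · obtain ⟨x, hx, hx1⟩ := exists_ne_one X hq hω
    refine hx1 (h x (orbL_mem_U hx) (conj_up hF ha w (fun s hs => ⟨(T.mem_orbL hs).2, fun u => ?_⟩) hx))
    rw [← hF.tsys_U]
    exact (hF.tsys F).x_mem_U (by simpa [Facts.refSys] using hpos s (T.mem_orbL hs).2 hs) (Fin.isLt _) u

/-- U is a Sylow subgroup of the twisted group. -/
theorem exists_conj_U1 (K : Subgroup ↥X.G1) (hK : Nat.card K = Nat.card (U1 X)) :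
    ∃ a : ↥X.G1, K = (U1 X).map (MulAut.conj a).toMonoidHom := by
  classical
  haveI := Fintype.ofFinite F
  obtain ⟨p, _⟩ := CharP.exists F
  have hp : p.Prime := CharP.char_is_prime F p
  haveI : Fact p.Prime := ⟨hp⟩
  obtain ⟨m, -, hm⟩ := FiniteField.card F p
  have hpU : ∀ L : Subgroup (GL D.Idx F), L ≤ (hF.tsys F).U → ∃ j, Nat.card L = p ^ j := fun L hL => by
    have h1 := Subgroup.card_dvd_of_le hL
    rw [StValues.card_U_eq hF (p := p)] at h1
    obtain ⟨j, -, hj⟩ := (Nat.dvd_prime_pow hp).1 h1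
    exact ⟨j, hj⟩
  obtain ⟨j, hj⟩ := hpU (D.posUnipotent F ⊓ X.G1) (by rw [hF.tsys_U]; exact inf_le_left)
  set M := Nat.card ↥(D.diagonalSubgroup F ⊓ X.G1) *
      ∑ᶠ w : {w : hF.weyl // T.PiFix w}, Nat.card ↥((hF.tsys F).US (TorusSys.invList w.1) ⊓ T.fix) with hM
  have hG : Nat.card ↥X.G1 = p ^ j * M := by rw [X.card_G1, hj, hM, mul_assoc]
  have hndvd : ¬ p ∣ M := by
    rw [hM, hp.dvd_mul, not_or]
    constructor
    · intro h1
      have h2 : Nat.card ↥(D.diagonalSubgroup F) ∣ (Fintype.card F - 1) ^ D.rank := by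
        rw [hF.diagonalSubgroup_eq]
        have := Subgroup.card_range_dvd (torus D F)
        rw [← Nat.card_eq_fintype_card (α := F)]
        rwa [Nat.card_fun, Nat.card_units, Nat.card_fin] at this
      have h3 := hp.dvd_of_dvd_pow (h1.trans ((Subgroup.card_dvd_of_le inf_le_left).trans h2))
      have h4 : p ∣ Fintype.card F := hm ▸ dvd_pow_self p m.ne_zero
      have h5 : 0 < Fintype.card F := Fintype.card_pos
      have h6 := Nat.dvd_sub h4 h3
      rw [show Fintype.card F - (Fintype.card F - 1) = 1 by omega] at h6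
      exact hp.ne_one (Nat.dvd_one.1 h6)
    · rw [← ZMod.natCast_eq_zero_iff, finsum_eq_sum_of_fintype, Nat.cast_sum,
        Finset.sum_eq_single (⟨1, T.piFix_one⟩ : {w : hF.weyl // T.PiFix w})]
      · have h1 := (X.inv_le_card T.piFix_one).2
        rw [RefSystem.len_one, pow_zero, pow_eq_one_iff_left X.hd] at h1
        rw [h1, Nat.cast_one]
        exact one_ne_zero
      · intro w _ hw
        obtain ⟨i, hi⟩ := hpU ((hF.tsys F).US (TorusSys.invList w.1) ⊓ T.fix) (inf_le_left.trans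
          (CommSys.US_mono _ fun r hr => Facts.mem_posL.2 ((TorusSys.closed_invList w.1).mem_pos r hr)))
        have h1 := (X.inv_le_card w.2).2
        cases i with
        | zero =>
          rw [hi, pow_zero, one_pow] at h1
          exact absurd h1.symm (Nat.one_lt_pow (fun h0 => hw (Subtype.ext
            (hF.refSys.eq_one_of_len_eq_zero h0))) hq).ne'
        | succ i => rw [hi, Nat.cast_pow, ZMod.natCast_self, zero_pow (Nat.succ_ne_zero i)]
      · exact fun h => absurd (Finset.mem_univ _) h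
  have hM0 : M ≠ 0 := fun h0 => hndvd (h0 ▸ dvd_zero p)
  have hU : Nat.card (U1 X) = p ^ (Nat.card ↥X.G1).factorization p := by
    rw [U1, card_subgroupOf, hj, hG, Nat.factorization_mul (pow_ne_zero _ hp.ne_zero) hM0,
      Finsupp.add_apply, hp.factorization_pow, Finsupp.single_eq_same,
      Nat.factorization_eq_zero_of_not_dvd hndvd, Nat.add_zero]
  obtain ⟨a, ha⟩ := MulAction.exists_smul_eq ↥X.G1 (Sylow.ofCard (U1 X) hU)
    (Sylow.ofCard K (hK.trans hU))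
  refine ⟨a, ?_⟩
  have h2 := congrArg Sylow.toSubgroup ha
  rw [Sylow.coe_subgroup_smul] at h2
  exact h2.symm

omit hq in
theorem exists_n0 : ∃ a ∈ (hF.tsys F).H, ∃ n : ↥X.G1, (n : GL D.Idx F) = a * (hF.tsys F).nW (ChevAut.w0 hF) ∧
    T.PiFix (ChevAut.w0 hF) := by
  obtain ⟨w, hw, hL⟩ := T.exists_longest
  have e : w = ChevAut.w0 hF := eq_w0 fun r hr => by
    have h : r.val ∈ TorusSys.invList w := by
      rw [hL]; exact Facts.mem_posL.2 ⟨by simpa [Facts.refSys] using hr, r.isLt⟩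
    obtain ⟨h1, h2⟩ := TorusSys.mem_invList.1 h
    exact ((RefSystem.mem_inv _).1 h2).2
  subst e
  obtain ⟨a, ha, hn⟩ := X.exists_rep hw
  exact ⟨a, ha, ⟨_, hn⟩, rfl, hw⟩

omit hq in
/-- A longest monomial element exchanges the two unipotent subgroups. -/
theorem longest_conj {a : GL D.Idx F} (ha : a ∈ (hF.tsys F).H) {n g : ↥X.G1}
    (hn : (n : GL D.Idx F) = a * (hF.tsys F).nW (ChevAut.w0 hF)) :
    (n * g * n⁻¹ ∈ V1 X ↔ g ∈ U1 X) ∧ (n * g * n⁻¹ ∈ U1 X ↔ g ∈ V1 X) := by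
  constructor
  · constructor
    · intro h
      have h0 : (n : GL D.Idx F) * g * (n : GL D.Idx F)⁻¹ ∈ D.negUnipotent F := h
      have h1 := ChevAut.H_conj_V hF (inv_mem ha) h0
      obtain ⟨u, hu, hue⟩ := (hF.conj_longest (ChevAut.w0_spec hF)).ge h1
      have : u = (g : GL D.Idx F) := (MulAut.conj ((hF.tsys F).nW (ChevAut.w0 hF))).injective (hue.trans (by
        rw [MulAut.conj_apply, hn]; group))
      rw [this] at hu
      exact hu
    · intro h
      have h1 := ChevAut.H_conj_V hF ha (ChevAut.n0_U hF h)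
      show (n : GL D.Idx F) * g * (n : GL D.Idx F)⁻¹ ∈ D.negUnipotent F
      rw [hn]
      convert h1 using 1
      simp [mul_assoc]
  · constructor
    · intro h
      have h0 : (n : GL D.Idx F) * g * (n : GL D.Idx F)⁻¹ ∈ D.posUnipotent F := h
      have h1 := ChevAut.n0_U_inv hF (ChevAut.B_conj_U hF ((hF.tsys F).H_le_B (inv_mem ha)) h0)
      show (g : GL D.Idx F) ∈ D.negUnipotent F
      rw [hn] at h1
      convert h1 using 1
      simp [mul_assoc]
    · intro h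
      have h1 := ChevAut.B_conj_U hF ((hF.tsys F).H_le_B ha) (ChevAut.n0_V hF h)
      show (n : GL D.Idx F) * g * (n : GL D.Idx F)⁻¹ ∈ D.posUnipotent F
      rw [hn]
      convert h1 using 1
      simp [mul_assoc]

omit hq in
theorem mem_map_conj {G : Type*} [Group G] {K : Subgroup G} {a g : G} :
    g ∈ K.map (MulAut.conj a).toMonoidHom ↔ a⁻¹ * g * a ∈ K := by
  rw [Subgroup.mem_map_equiv, MulAut.conj_symm_apply]

omit hq in
theorem U1_conj {b : GL D.Idx F} (hb : b ∈ (hF.tsys F).B) {g : ↥X.G1} (hbg : (g : GL D.Idx F) = b)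
    (z : ↥X.G1) : g * z * g⁻¹ ∈ U1 X ↔ z ∈ U1 X := by
  have key : ∀ {b : GL D.Idx F}, b ∈ (hF.tsys F).B → ∀ {g : ↥X.G1}, (g : GL D.Idx F) = b →
      ∀ {z : ↥X.G1}, z ∈ U1 X → g * z * g⁻¹ ∈ U1 X := fun {b} hb {g} hbg {z} hz => by
    rw [mem_U1, Subgroup.coe_mul, Subgroup.coe_mul, Subgroup.coe_inv, hbg]
    exact ChevAut.B_conj_U hF hb hz
  refine ⟨fun h => ?_, key hb hbg⟩
  have := key (inv_mem hb) (g := g⁻¹) (by rw [Subgroup.coe_inv, hbg]) h
  simpa [mul_assoc] using this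

/-- Every automorphism is an inner one times one fixing U and V. -/
theorem exists_std (θ : MulAut ↥X.G1) :
    ∃ x : ↥X.G1, (MulAut.conj x)⁻¹ * θ ∈ stab (U1 X) (V1 X) := by
  classical
  obtain ⟨a0, ha0, n0, hn0, -⟩ := exists_n0 X
  have hVU : V1 X = (U1 X).map (MulAut.conj n0).toMonoidHom := by
    ext z
    rw [mem_map_conj, ← (longest_conj X ha0 hn0 (g := n0⁻¹ * z * n0)).1]
    group
  have hcard : ∀ (K : Subgroup ↥X.G1) (φ : MulAut ↥X.G1), Nat.card (K.map φ.toMonoidHom) = Nat.card K :=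
    fun K φ => (Nat.card_congr (K.equivMapOfInjective φ.toMonoidHom φ.injective).toEquiv).symm
  obtain ⟨a, ha⟩ := exists_conj_U1 X hq ((U1 X).map θ.toMonoidHom) (hcard _ _)
  set θ₁ := (MulAut.conj a)⁻¹ * θ with hθ₁
  have h1 : ∀ z, θ₁ z ∈ U1 X ↔ z ∈ U1 X := fun z => by
    have e := SetLike.ext_iff.1 ha (θ z)
    rw [mem_map_conj] at e
    show (MulAut.conj a).symm (θ z) ∈ U1 X ↔ _
    rw [MulAut.conj_symm_apply, ← e, Subgroup.mem_map_equiv, θ.symm_apply_apply]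
  obtain ⟨g, hg⟩ := exists_conj_U1 X hq ((V1 X).map θ₁.toMonoidHom) (by rw [hcard, hVU, hcard])
  have h2 : ∀ z, g⁻¹ * θ₁ z * g ∈ U1 X ↔ z ∈ V1 X := fun z => by
    rw [← mem_map_conj, ← hg, Subgroup.mem_map_equiv, θ₁.symm_apply_apply]
  have hmeet : ∀ z, z ∈ U1 X → g⁻¹ * z * g ∈ U1 X → z = 1 := by
    intro z hz hz'
    rw [← θ₁.apply_symm_apply z, h2] at hz'
    rw [← θ₁.apply_symm_apply z, h1] at hz
    rw [← θ₁.apply_symm_apply z, show θ₁.symm z = 1 from Subtype.ext (ChevAut.U_inter_V hF hz hz'), map_one]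
  obtain ⟨w, hw, u, hu, huG, c, hc, hn, v, hv, hvG, he⟩ := X.decomp g.2
  set uu : ↥X.G1 := ⟨u, huG⟩ with huu
  set n : ↥X.G1 := ⟨_, hn⟩ with hn'
  set vv : ↥X.G1 := ⟨v, hvG⟩ with hvv
  have hge : g = uu * n * vv := Subtype.ext he
  have huB := (hF.tsys F).U_le_B hu
  have hvB := X.inv_B hv
  have hlong : w = ChevAut.w0 hF := by
    refine longest_of_meet X hq hw hc fun z hz hz' => ?_
    have hm := hmeet (uu * (n * z * n⁻¹) * uu⁻¹) ((U1_conj X huB rfl _).2 hz') (by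
      rw [hge, show (uu * n * vv)⁻¹ * (uu * (n * z * n⁻¹) * uu⁻¹) * (uu * n * vv) = vv⁻¹ * z * vv⁻¹⁻¹ by group]
      exact (U1_conj X (inv_mem hvB) rfl _).2 hz)
    simpa using hm
  subst hlong
  have hn1 : ∀ z, n * z * n⁻¹ ∈ V1 X ↔ z ∈ U1 X := fun z => (longest_conj X hc (n := n) rfl).1
  refine ⟨a * uu, fun z => ?_, fun z => ?_⟩
  · rw [map_mul, _root_.mul_inv_rev, mul_assoc, ← hθ₁]
    show (MulAut.conj uu).symm (θ₁ z) ∈ U1 X ↔ _
    rw [MulAut.conj_symm_apply, ← U1_conj X huB (g := uu) rfl, ← h1 z]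
    group
  · rw [map_mul, _root_.mul_inv_rev, mul_assoc, ← hθ₁]
    show (MulAut.conj uu).symm (θ₁ z) ∈ V1 X ↔ _
    rw [MulAut.conj_symm_apply, ← h2 z, hge, show (uu * n * vv)⁻¹ * θ₁ z * (uu * n * vv) =
      vv⁻¹ * (n⁻¹ * (uu⁻¹ * θ₁ z * uu) * n) * vv⁻¹⁻¹ by group, U1_conj X (inv_mem hvB) rfl, ← hn1]
    group

/-- The elements normalising U lie in B. -/
theorem mem_B_of_normalizes {g : ↥X.G1} (h : ∀ z ∈ U1 X, g * z * g⁻¹ ∈ U1 X) :
    (g : GL D.Idx F) ∈ (hF.tsys F).B := by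
  obtain ⟨w, hw, u, hu, huG, c, hc, hn, v, hv, hvG, he⟩ := X.decomp g.2
  set uu : ↥X.G1 := ⟨u, huG⟩
  set n : ↥X.G1 := ⟨_, hn⟩
  set vv : ↥X.G1 := ⟨v, hvG⟩
  have hge : g = uu * n * vv := Subtype.ext he
  have hnorm : ∀ z ∈ U1 X, n * z * n⁻¹ ∈ U1 X := by
    intro z hz
    have h1 := h (vv⁻¹ * z * vv⁻¹⁻¹) ((U1_conj X (inv_mem (X.inv_B hv)) rfl z).2 hz)
    rw [hge, show uu * n * vv * (vv⁻¹ * z * vv⁻¹⁻¹) * (uu * n * vv)⁻¹ = uu * (n * z * n⁻¹) * uu⁻¹ by group,
      U1_conj X ((hF.tsys F).U_le_B hu) rfl] at h1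
    exact h1
  by_cases hw1 : w = 1
  · subst hw1
    rw [he]
    exact mul_mem (mul_mem ((hF.tsys F).U_le_B hu) ((hF.tsys F).H_le_B (mul_mem hc (hF.tsys F).nW_one)))
      (X.inv_B hv)
  · exfalso
    obtain ⟨i, hi⟩ := Twist.exists_descent hw1
    obtain ⟨ω, hω, hiω⟩ := T.exists_orbit X.hOs i
    obtain ⟨x, hx, hx1⟩ := exists_ne_one X hq hω
    have hV : (n * x * n⁻¹ : ↥X.G1) ∈ V1 X := conj_up hF hc w (fun s hs => ⟨(T.mem_orbL hs).2, fun u =>
      hF.x_mem_negUnipotent (by simpa [Facts.refSys] using T.orbit_neg X.hOs hω hw hiω hi s (T.mem_orbL hs).2 hs) u⟩) hx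
    have h1 : n * x * n⁻¹ = 1 := Subtype.ext (ChevAut.U_inter_V hF (hnorm x (orbL_mem_U hx)) hV)
    exact hx1 (conj_eq_one_iff.1 h1)

/-- The common normaliser of U and V is H. -/
theorem conj_mem_stab {x : ↥X.G1} : MulAut.conj x ∈ stab (U1 X) (V1 X) ↔ x ∈ H1 X := by
  have hH : ∀ {x : ↥X.G1}, x ∈ H1 X → (x : GL D.Idx F) ∈ (hF.tsys F).H := fun {x} hx => by
    rw [hF.tsys_H]; exact hx
  constructor
  · rintro ⟨h1, h2⟩
    obtain ⟨u, hu, huG, a, ha, haG, he⟩ := X.mem_B1 (mem_B_of_normalizes X hq fun z hz => (h1 z).2 hz) x.2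
    set uu : ↥X.G1 := ⟨u, huG⟩
    set aa : ↥X.G1 := ⟨a, haG⟩
    have hxe : x = uu * aa := Subtype.ext he
    have huV : ∀ z ∈ V1 X, uu * z * uu⁻¹ ∈ V1 X := by
      intro z hz
      have h := (h2 (aa⁻¹ * z * aa⁻¹⁻¹)).2 (ChevAut.H_conj_V hF (inv_mem ha) hz)
      rwa [MulAut.conj_apply, hxe, show uu * aa * (aa⁻¹ * z * aa⁻¹⁻¹) * (uu * aa)⁻¹ = uu * z * uu⁻¹ by group] at h
    obtain ⟨a0, ha0, n0, hn0, -⟩ := exists_n0 X
    have hU : ∀ z ∈ U1 X, (n0 * uu * n0⁻¹) * z * (n0 * uu * n0⁻¹)⁻¹ ∈ U1 X := by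
      intro z hz
      rw [show (n0 * uu * n0⁻¹) * z * (n0 * uu * n0⁻¹)⁻¹ = n0 * (uu * (n0⁻¹ * z * n0) * uu⁻¹) * n0⁻¹ by group,
        (longest_conj X ha0 hn0).2]
      refine huV _ ?_
      rw [← (longest_conj X ha0 hn0).2]
      convert hz using 1
      group
    have hV : n0 * uu * n0⁻¹ ∈ V1 X := (longest_conj X ha0 hn0).1.2 (by
      rw [mem_U1, ← hF.tsys_U]; exact hu)
    have h3 : n0 * uu * n0⁻¹ = 1 :=
      Subtype.ext (hF.B_inter_V (mem_B_of_normalizes X hq hU) hV)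
    rw [conj_eq_one_iff] at h3
    rw [hxe, h3, one_mul]
    show a ∈ D.diagonalSubgroup F
    rw [← hF.tsys_H]
    exact ha
  · intro hx
    refine stab_of_le _ _ (fun z hz => (U1_conj X ((hF.tsys F).H_le_B (hH hx)) rfl z).2 hz) fun z hz => ?_
    exact ChevAut.H_conj_V hF (hH hx) hz

/-- The order of the outer automorphism group of a twisted group. -/
theorem card_out_twisted (hc : Subgroup.center ↥X.G1 = ⊥) :
    Nat.card (Cfsg.Out ↥X.G1) * Nat.card ↥(D.diagonalSubgroup F ⊓ X.G1) =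
      Nat.card (stab (U1 X) (V1 X)) := by
  rw [← card_subgroupOf]
  exact card_out _ _ (H1 X) hc (exists_std X hq) fun x => conj_mem_stab X hq

end Tw

end Cfsg.Agent.Small.TwistAut
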