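import Cfsg.Agent.Lib.Small.TwistAut.Std
import Cfsg.Agent.Lib.Lie.Tits

/-!
An automorphism fixing the two unipotent subgroups of a twisted group permutes the minimal parabolic
subgroups and with them the root groups of the negatives of the orbits.
-/

set_option autoImplicit false
set_option synthInstance.maxHeartbeats 400000
set_option linter.style.haveILetI false

namespace Cfsg.Agent.Small.TwistAut

open Cfsg Cfsg.Lie Cfsg.Agent.Lie Matrix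
open scoped MatrixGroups

/-- A word sending all positive roots to negative roots and the negative of each orbit onto the orbit. -/
def okOpp (D : ChevalleyDatum) (Os : List (List (Fin D.rank))) (l : List (Fin D.rank)) : Bool :=
  ((Facts.posL D).all fun r => decide (actR D (l.map Fin.val) r < D.nroots / 2)) &&
  Os.all fun ω => (orbL D (ω.map Fin.val)).all fun r =>
    (orbL D (ω.map Fin.val)).contains (actR D (l.map Fin.val) (D.neg r))

variable {D : ChevalleyDatum} {F : Type*} [Field F] {hF : Facts D}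

theorem opp_of_ok {Os : List (List (Fin D.rank))} {l : List (Fin D.rank)} (h : okOpp D Os l = true) :
    ∀ ω ∈ Os, ∀ r ∈ orbL D (ω.map Fin.val), ∀ hr : D.neg r < D.nroots,
      (ChevAut.w0 hF • (⟨D.neg r, hr⟩ : Fin D.nroots) : Fin D.nroots).val ∈ orbL D (ω.map Fin.val) := by
  simp only [okOpp, Bool.and_eq_true, List.all_eq_true, decide_eq_true_eq, List.contains_iff_mem] at h
  intro ω hω r hr hlt
  rw [← eq_w0 (hF := hF) (w := hF.refSys.pr l) (fun x hx => ?_), Facts.pr_smul_val]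
  · exact h.2 ω hω r hr
  · have hp : D.nroots / 2 ≤ x.val := by simpa [Facts.refSys] using hx
    have h1 := h.1 x.val (Facts.mem_posL.2 ⟨hp, x.isLt⟩)
    rw [← Facts.pr_smul_val (hF := hF)] at h1
    simpa [Facts.refSys] using h1

variable [Finite F] {T : Twist hF F} {Os : List (List (Fin D.rank))} (X : TwData T Os)

/-- The representative of an orbit element in the group. -/
noncomputable def nOrb (ω : {ω : List (Fin D.rank) // ω ∈ Os}) : ↥X.G1 := ⟨X.nO ω, (X.nO_spec ω).1⟩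

/-- A minimal parabolic subgroup. -/
noncomputable def Po (ω : {ω : List (Fin D.rank) // ω ∈ Os}) : Subgroup ↥X.G1 := X.bnPair.parabolic {nOrb X ω}

theorem mem_bnB1 {g : ↥X.G1} : g ∈ X.bnPair.B ↔ (g : GL D.Idx F) ∈ (hF.tsys F).B := by
  rw [hF.tsys_B]
  exact ⟨fun h => h.1, fun h => ⟨h, g.2⟩⟩

theorem nOrb_mem_S (ω : {ω : List (Fin D.rank) // ω ∈ Os}) : ({nOrb X ω} : Set ↥X.G1) ⊆ X.bnPair.S := by
  rintro x rfl
  exact ⟨ω, rfl⟩

include X in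
theorem exists_node {ω : List (Fin D.rank)} (hω : ω ∈ Os) : ∃ i, i ∈ ω := by
  obtain ⟨r, hr⟩ := List.exists_mem_of_ne_nil _ (T.orbL_ne_nil X.hOs hω)
  obtain ⟨j, -, hjJ, -⟩ := hF.exists_refl_lt_J (nodeSet ω)
    ((T.orbL_iff X.hOs hω (T.mem_orbL hr).2 (T.mem_orbL hr).1).1 hr) (T.mem_orbL hr).1
  obtain ⟨i, hi, -⟩ := List.mem_map.1 hjJ
  exact ⟨i, hi⟩

theorem mem_Po {ω : {ω : List (Fin D.rank) // ω ∈ Os}} {g : ↥X.G1} (hg : g ∈ Po X ω) :
    g ∈ X.bnPair.B ∨ ∃ b ∈ X.bnPair.B, ∃ x ∈ Xo X ω.1, g = b * nOrb X ω * x := by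
  set s := nOrb X ω with hs
  have hJ := nOrb_mem_S X ω
  have hword : ∀ l : List ↥X.G1, (∀ x ∈ l, x = s) →
      Tits.Cong X.bnPair l.prod 1 ∨ Tits.Cong X.bnPair l.prod s := by
    intro l
    induction l with
    | nil => intro _; exact Or.inl (Tits.Cong.refl 1)
    | cons x τ ih =>
      intro h
      obtain rfl : x = s := h x List.mem_cons_self
      rw [List.prod_cons]
      rcases ih fun y hy => h y (List.mem_cons_of_mem _ hy) with h1 | h1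
      · exact Or.inr (by simpa using h1.mul_left s)
      · refine Or.inl ((h1.mul_left s).trans ?_)
        have := Tits.sq_cancel (P := X.bnPair) (hJ rfl) (n := 1) (one_mem _)
        simpa using this
  obtain ⟨n, hn, hgn⟩ := (Tits.mem_parabolic (P := X.bnPair) hJ).1 hg
  obtain ⟨l, -, hl, hc⟩ := Tits.closure_cong_word (P := X.bnPair) hJ (Subgroup.mem_sup_left hn)
  rw [← Tits.DC_congr hc] at hgn
  rcases hword l hl with h1 | h1
  · rw [Tits.DC_congr h1, Tits.mem_DC_iff_B (one_mem _)] at hgn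
    exact Or.inl hgn
  · rw [Tits.DC_congr h1] at hgn
    obtain ⟨b, hb, y, hy, rfl⟩ := DoubleCoset.mem_doubleCoset.1 hgn
    obtain ⟨u, hu, huG, a, ha, haG, hye⟩ := X.mem_B1 ((mem_bnB1 X).1 hy) y.2
    obtain ⟨hnG, c, hc, hne⟩ := X.nO_spec ω
    obtain ⟨w0, hw0, hw0L⟩ := T.exists_longest
    obtain ⟨i, hi⟩ := exists_node X ω.2
    have hneg0 : w0 • hF.refSys.α i ∉ hF.refSys.P := by
      have : D.simple i.val ∈ TorusSys.invList w0 := by
        rw [hw0L]; exact Facts.mem_posL.2 ⟨hF.simple_ge i i.isLt, hF.simple_lt i i.isLt⟩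
      obtain ⟨h, hh⟩ := TorusSys.mem_invList.1 this
      exact ((RefSystem.mem_inv _).1 hh).2
    obtain ⟨hq1, hq2, hq3⟩ := T.split X.hOs ω.2 hw0 hi hneg0
    have hww : w0 * T.wO ω.1 * T.wO ω.1 = w0 := by rw [mul_assoc, T.wO_sq X.hOs ω.2, mul_one]
    have hS : T.SplitHyp ω.1 (w0 * T.wO ω.1) :=
      ⟨hq1, by rw [hww]; exact hw0, by rw [hww]; exact hq2, hq3⟩
    obtain ⟨z, hz, hzf, x, hx, hxf, hue⟩ := hS.fixed T ω.2 X.hOs hc (hne ▸ X.le_fix hnG)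
      (g := u) (by rw [hww, hw0L]; exact hu) (X.le_fix huG)
    rw [← hne] at hue
    have hzG : z ∈ X.G1 := (X.inv_le_card hq1).1 ⟨hz, hzf⟩
    have hxG : x ∈ X.G1 := X.orb_le ω.1 ω.2 ⟨hx, hxf⟩
    have hnN := X.nO_mem_N ω
    refine Or.inr ⟨b * ⟨z, hzG⟩ * (s * ⟨a, haG⟩ * s⁻¹), mul_mem (mul_mem hb ((mem_bnB1 X).2 (X.inv_B hz)))
      ((mem_bnB1 X).2 ((hF.tsys F).H_le_B ?_)), ⟨a, haG⟩⁻¹ * ⟨x, hxG⟩ * ⟨a, haG⟩, ?_, Subtype.ext ?_⟩
    · show X.nO ω * a * (X.nO ω)⁻¹ ∈ (hF.tsys F).H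
      exact (hF.tsys F).H_normal_in_N hnN ha
    · show a⁻¹ * x * a ∈ (hF.tsys F).US (orbL D (ω.1.map Fin.val))
      have := (hF.tsys F).H_conj_US (inv_mem ha) (fun r hr => (T.mem_orbL hr).2) hx
      simpa using this
    · simp only [Subgroup.coe_mul, Subgroup.coe_inv, hye]
      show (b : GL D.Idx F) * X.nO ω * (u * a) =
        (b : GL D.Idx F) * z * (X.nO ω * a * (X.nO ω)⁻¹) * X.nO ω * (a⁻¹ * x * a)
      rw [hue]
      group

theorem mem_Yo_iff {ω : {ω : List (Fin D.rank) // ω ∈ Os}} {z : ↥X.G1} :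
    z ∈ Yo X ω.1 ↔ (nOrb X ω)⁻¹ * z * nOrb X ω ∈ Xo X ω.1 := by
  obtain ⟨-, a, ha, he⟩ := X.nO_spec ω
  constructor
  · intro h
    show (X.nO ω)⁻¹ * (z : GL D.Idx F) * X.nO ω ∈ (hF.tsys F).US (orbL D (ω.1.map Fin.val))
    rw [he]
    exact (X.neg_orbit_subgroup ω.2 ha).2 _ h
  · intro h
    have h1 := (X.neg_orbit_subgroup ω.2 ha).1 _ h
    rw [← he] at h1
    show (z : GL D.Idx F) ∈ (hF.tsys F).US (Twist.negL D ω.1)
    convert h1 using 1
    show (z : GL D.Idx F) = X.nO ω * ((X.nO ω)⁻¹ * z * X.nO ω) * (X.nO ω)⁻¹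
    group

theorem card_Yo (ω : {ω : List (Fin D.rank) // ω ∈ Os}) : Nat.card (Yo X ω.1) = Nat.card (Xo X ω.1) := by
  have e : Yo X ω.1 = (Xo X ω.1).map (MulAut.conj (nOrb X ω)).toMonoidHom := by
    ext z
    rw [mem_map_conj, mem_Yo_iff]
  rw [e]
  exact (Nat.card_congr ((Xo X ω.1).equivMapOfInjective _ (MulAut.conj (nOrb X ω)).injective).toEquiv).symm

theorem Yo_le_V1 (ω : List (Fin D.rank)) : Yo X ω ≤ V1 X := fun _ hg => Twist.negL_le_negUnipotent hg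

theorem B_le_Po (ω : {ω : List (Fin D.rank) // ω ∈ Os}) : X.bnPair.B ≤ Po X ω := le_sup_left

theorem nOrb_mem_Po (ω : {ω : List (Fin D.rank) // ω ∈ Os}) : nOrb X ω ∈ Po X ω :=
  Subgroup.mem_sup_right (Subgroup.subset_closure rfl)

variable (hq : 2 ≤ X.q)

include hq

/-- A minimal parabolic meets V in the root group of the negative of the orbit. -/
theorem Po_inter_V1 (ω : {ω : List (Fin D.rank) // ω ∈ Os}) : Po X ω ⊓ V1 X = Yo X ω.1 := by
  classical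
  have hle : Yo X ω.1 ≤ Po X ω ⊓ V1 X := fun z hz => by
    refine ⟨?_, Yo_le_V1 X _ hz⟩
    rw [show z = nOrb X ω * ((nOrb X ω)⁻¹ * z * nOrb X ω) * (nOrb X ω)⁻¹ by group]
    refine Subgroup.mul_mem _ (Subgroup.mul_mem _ (nOrb_mem_Po X ω) (B_le_Po X ω ((mem_bnB1 X).2 ?_)))
      (Subgroup.inv_mem _ (nOrb_mem_Po X ω))
    have h := orbL_mem_U ((mem_Yo_iff X).1 hz)
    rw [← hF.tsys_U] at h
    exact (hF.tsys F).U_le_B h
  let f : ↥(Po X ω ⊓ V1 X) → Option (Xo X ω.1) := fun v =>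
    if h : (v : ↥X.G1) ∈ X.bnPair.B then none
    else some ⟨_, ((mem_Po X v.2.1).resolve_left h).choose_spec.2.choose_spec.1⟩
  have hB : ∀ v v' : ↥(Po X ω ⊓ V1 X), (v : ↥X.G1) * (v' : ↥X.G1)⁻¹ ∈ X.bnPair.B → v = v' := fun v v' h => by
    have h1 : (v : ↥X.G1) * (v' : ↥X.G1)⁻¹ = 1 :=
      Subtype.ext (hF.B_inter_V ((mem_bnB1 X).1 h) (mul_mem v.2.2 (inv_mem v'.2.2)))
    exact Subtype.ext (mul_inv_eq_one.1 h1)
  have hf : Function.Injective f := by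
    intro v v' h
    refine hB v v' ?_
    by_cases h1 : (v : ↥X.G1) ∈ X.bnPair.B <;> by_cases h2 : (v' : ↥X.G1) ∈ X.bnPair.B
    · exact mul_mem h1 (inv_mem h2)
    · simp [f, h1, h2] at h
    · simp [f, h1, h2] at h
    · simp only [f, dif_neg h1, dif_neg h2, Option.some.injEq, Subtype.mk.injEq] at h
      obtain ⟨hb, h3⟩ := ((mem_Po X v.2.1).resolve_left h1).choose_spec
      obtain ⟨hb', h4⟩ := ((mem_Po X v'.2.1).resolve_left h2).choose_spec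
      rw [h3.choose_spec.2, h4.choose_spec.2, h]
      convert mul_mem hb (inv_mem hb') using 1
      group
  have h1 : Nat.card ↥(Po X ω ⊓ V1 X) ≤ Nat.card (Yo X ω.1) + 1 := by
    refine (Nat.card_le_card_of_injective f hf).trans ?_
    rw [Finite.card_option, card_Yo]
  have h2 : 1 < Nat.card (Yo X ω.1) := by
    rw [card_Yo]
    obtain ⟨x, hx, hx1⟩ := exists_ne_one X hq ω.2
    haveI : Nontrivial (Xo X ω.1) := ⟨⟨⟨x, hx⟩, 1, fun e => hx1 (congrArg Subtype.val e)⟩⟩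
    exact Finite.one_lt_card
  obtain ⟨k, hk⟩ := Subgroup.card_dvd_of_le hle
  refine (Subgroup.eq_of_le_of_card_ge hle ?_).symm
  rw [hk] at h1 ⊢
  rcases Nat.lt_or_ge k 2 with hlt | hge
  · interval_cases k <;> simp
  · nlinarith

theorem std_B {θ : MulAut ↥X.G1} (hθ : θ ∈ stab (U1 X) (V1 X)) {g : ↥X.G1} :
    θ g ∈ X.bnPair.B ↔ g ∈ X.bnPair.B := by
  refine mem_iff_of_le (fun x hx => (mem_bnB1 X).2 (mem_B_of_normalizes X hq fun z hz => ?_)) g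
  rw [← θ.apply_symm_apply z, ← map_mul, ← map_inv, ← map_mul, hθ.1,
    U1_conj X ((mem_bnB1 X).1 hx) rfl, ← hθ.1, θ.apply_symm_apply]
  exact hz

omit hq in
theorem Po_inj {ω ω' : {ω : List (Fin D.rank) // ω ∈ Os}} (h : Po X ω' ≤ Po X ω) : ω' = ω := by
  have h1 := (Tits.S_inter_parabolic (P := X.bnPair) (nOrb_mem_S X ω) (nOrb_mem_S X ω' rfl)).1
    (h (nOrb_mem_Po X ω'))
  have h2 : X.nO ω' = X.nO ω := congrArg Subtype.val h1
  obtain ⟨-, a, ha, he⟩ := X.nO_spec ω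
  obtain ⟨-, a', ha', he'⟩ := X.nO_spec ω'
  have hw : T.wO ω'.1 = T.wO ω.1 := hF.nW_eq_of_mul (F := F) ha' ha (by rw [← he', ← he, h2])
  obtain ⟨i, hi⟩ := exists_node X ω'.2
  have hiL : D.simple i.val ∈ orbL D (ω.1.map Fin.val) := by
    rw [← T.invList_wO X.hOs ω.2, ← hw, T.invList_wO X.hOs ω'.2]
    exact simple_mem_orbL X ω'.2 hi
  rw [T.orbL_iff X.hOs ω.2 (hF.simple_lt i i.isLt) (hF.simple_ge i i.isLt),
    hF.inRootSub_simple (nodeSet ω.1) i.isLt] at hiL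
  obtain ⟨k, hk, hki⟩ := List.mem_map.1 hiL
  exact Subtype.ext (T.orbit_unique X.hOs ω'.2 ω.2 hi (Fin.ext hki ▸ hk))

omit hq in
theorem exists_Po_le {M : Subgroup ↥X.G1} (hM : X.bnPair.B ≤ M) (hne : ¬ M ≤ X.bnPair.B) :
    ∃ ω, Po X ω ≤ M := by
  by_contra h
  refine hne ?_
  rw [Tits.eq_parabolic (P := X.bnPair) hM]
  refine sup_le le_rfl ((Subgroup.closure_le _).2 ?_)
  rintro z ⟨⟨ω, rfl⟩, hz⟩
  exact absurd ⟨ω, sup_le hM ((Subgroup.closure_le _).2 (Set.singleton_subset_iff.2 hz))⟩ h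

theorem exists_Po_image {θ : MulAut ↥X.G1} (hθ : θ ∈ stab (U1 X) (V1 X))
    (ω : {ω : List (Fin D.rank) // ω ∈ Os}) : ∃ ω', (Po X ω).map θ.toMonoidHom = Po X ω' := by
  have key : ∀ {φ : MulAut ↥X.G1}, φ ∈ stab (U1 X) (V1 X) → ∀ k : {ω : List (Fin D.rank) // ω ∈ Os},
      ∃ j, Po X j ≤ (Po X k).map φ.toMonoidHom := by
    intro φ hφ k
    refine exists_Po_le X (fun x hx => ⟨φ.symm x, B_le_Po X k ?_, φ.apply_symm_apply x⟩) fun h =>
      Tits.S_not_B (P := X.bnPair) (nOrb_mem_S X k rfl)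
        ((std_B X hq hφ).1 (h ⟨_, nOrb_mem_Po X k, rfl⟩))
    rw [← std_B X hq hφ, MulEquiv.apply_symm_apply]
    exact hx
  obtain ⟨j, hj⟩ := key hθ ω
  obtain ⟨k, hk⟩ := key (inv_mem hθ) j
  refine ⟨j, le_antisymm ?_ hj⟩
  have hki : k = ω := Po_inj X fun x hx => by
    obtain ⟨y, hy, rfl⟩ := hk hx
    obtain ⟨z, hz, rfl⟩ := hj hy
    show θ⁻¹ (θ z) ∈ _
    rwa [MulAut.inv_def, MulEquiv.symm_apply_apply]
  subst hki
  rintro _ ⟨z, hz, rfl⟩
  obtain ⟨y, hy, hye⟩ := hk hz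
  rw [← hye]
  show θ (θ⁻¹ y) ∈ _
  rwa [MulAut.inv_def, MulEquiv.apply_symm_apply]

/-- The negative root groups are permuted. -/
theorem exists_Yo_image {θ : MulAut ↥X.G1} (hθ : θ ∈ stab (U1 X) (V1 X)) {ω : List (Fin D.rank)} (hω : ω ∈ Os) :
    ∃ ω' ∈ Os, (Yo X ω).map θ.toMonoidHom = Yo X ω' := by
  obtain ⟨j, hj⟩ := exists_Po_image X hq hθ ⟨ω, hω⟩
  refine ⟨j.1, j.2, ?_⟩
  rw [← Po_inter_V1 X hq j, ← hj, ← Po_inter_V1 X hq ⟨ω, hω⟩,
    Subgroup.map_inf _ _ _ θ.injective]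
  congr 1
  ext z
  rw [Subgroup.mem_map_equiv]
  exact (hθ.2 (θ.symm z)).symm.trans (by rw [θ.apply_symm_apply])

omit hq in
/-- The longest element carries the negative of each orbit to the orbit. -/
theorem map_Yo_n0 (hopp : ∀ ω ∈ Os, ∀ r ∈ orbL D (ω.map Fin.val), ∀ hr : D.neg r < D.nroots,
      (ChevAut.w0 hF • (⟨D.neg r, hr⟩ : Fin D.nroots) : Fin D.nroots).val ∈ orbL D (ω.map Fin.val))
    {a : GL D.Idx F} (ha : a ∈ (hF.tsys F).H) {n : ↥X.G1}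
    (hn : (n : GL D.Idx F) = a * (hF.tsys F).nW (ChevAut.w0 hF)) {ω : List (Fin D.rank)} (hω : ω ∈ Os) :
    (Yo X ω).map (MulAut.conj n).toMonoidHom = Xo X ω := by
  refine Subgroup.eq_of_le_of_card_ge ?_ ?_
  · rintro _ ⟨y, hy, rfl⟩
    show (n : GL D.Idx F) * y * (n : GL D.Idx F)⁻¹ ∈ (hF.tsys F).US (orbL D (ω.map Fin.val))
    rw [hn]
    refine conj_up hF ha _ (fun s hs => ?_) hy
    obtain ⟨r, hr, rfl⟩ := List.mem_map.1 hs
    refine ⟨hF.neg_lt (T.mem_orbL hr).2, fun u => ?_⟩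
    rw [← hF.tsys_x]
    exact CommSys.x_mem_US _ (hopp ω hω r hr _) u
  · rw [← card_Yo X ⟨ω, hω⟩]
    exact (Nat.card_congr ((Yo X ω).equivMapOfInjective _ (MulAut.conj n).injective).toEquiv).le

/-- If the negative root groups are all fixed, so are the positive ones. -/
theorem Xo_fixed (hopp : ∀ ω ∈ Os, ∀ r ∈ orbL D (ω.map Fin.val), ∀ hr : D.neg r < D.nroots,
      (ChevAut.w0 hF • (⟨D.neg r, hr⟩ : Fin D.nroots) : Fin D.nroots).val ∈ orbL D (ω.map Fin.val))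
    (hfix : ∀ θ ∈ stab (U1 X) (V1 X), ∀ ω ∈ Os, ∀ g ∈ Yo X ω, θ g ∈ Yo X ω)
    {θ : MulAut ↥X.G1} (hθ : θ ∈ stab (U1 X) (V1 X)) {ω : List (Fin D.rank)} (hω : ω ∈ Os) {g : ↥X.G1}
    (hg : g ∈ Xo X ω) : θ g ∈ Xo X ω := by
  obtain ⟨a, ha, n, hn, -⟩ := exists_n0 X
  have hlU : ∀ z, n * z * n⁻¹ ∈ V1 X ↔ z ∈ U1 X := fun z => (longest_conj X ha hn).1
  have hlV : ∀ z, n * z * n⁻¹ ∈ U1 X ↔ z ∈ V1 X := fun z => (longest_conj X ha hn).2
  have hθ' : (MulAut.conj n)⁻¹ * θ * MulAut.conj n ∈ stab (U1 X) (V1 X) := by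
    refine ⟨fun z => ?_, fun z => ?_⟩ <;>
      simp only [MulAut.mul_apply, MulAut.inv_def, MulAut.conj_symm_apply, MulAut.conj_apply]
    · rw [← hlU, ← hlU z, show n * (n⁻¹ * θ (n * z * n⁻¹) * n) * n⁻¹ = θ (n * z * n⁻¹) by group, hθ.2]
    · rw [← hlV, ← hlV z, show n * (n⁻¹ * θ (n * z * n⁻¹) * n) * n⁻¹ = θ (n * z * n⁻¹) by group, hθ.1]
  rw [← map_Yo_n0 X hopp ha hn hω] at hg ⊢
  obtain ⟨y, hy, rfl⟩ := hg
  refine ⟨_, hfix _ hθ' ω hω y hy, ?_⟩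
  exact (MulAut.conj n).apply_symm_apply _

end Cfsg.Agent.Small.TwistAut
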