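import Cfsg.Agent.Lib.Small.TwistAut.Orbit
import Cfsg.Agent.Lib.Small.ChevAut.Structure
import Cfsg.Agent.Lib.Lie.TwistF4S

/-!
The order of the outer automorphism group of the twisted groups of type ²F₄: an automorphism fixing the
two maximal unipotent subgroups is determined by a scalar and a field map on the pair and a scalar on the
orbit of type B₂.
-/

set_option autoImplicit false
set_option synthInstance.maxHeartbeats 400000
set_option maxHeartbeats 1600000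
set_option maxRecDepth 4000
set_option linter.style.haveILetI false

namespace Cfsg.Agent.Small.TwistAut.F4

open Cfsg Cfsg.Lie Cfsg.Agent.Lie Cfsg.Agent.Lie.Twist Matrix
open scoped MatrixGroups
open Cfsg.Agent.Lie.F4 (Os Setup b2_mem_Os torChar_eval weights_pos)
open Cfsg.Agent.Lie.F4.Setup (cP)

/-- The pair of end nodes. -/
def ωA : List (Fin chevF4.rank) := fnodes chevF4 [0, 3]

/-- The two middle nodes. -/
def ωB : List (Fin chevF4.rank) := fnodes chevF4 [1, 2, 1, 2]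

theorem condA : OrbitCond (Os := Os) ωA :=
  ⟨by decide +kernel, by decide +kernel, by decide +kernel, by decide +kernel, by decide +kernel⟩

theorem mem_Os {ω : List (Fin chevF4.rank)} (h : ω ∈ Os) : ω = ωA ∨ ω = ωB := by
  revert ω; decide +kernel

theorem listsA : simples chevF4 ωA = [33, 24] ∧ (orbL chevF4 (ωA.map Fin.val)).length = 2 := by decide +kernel

theorem listsB : orbL chevF4 (ωB.map Fin.val) = [25, 27, 28, 30] ∧ Twist.negL chevF4 ωB = [22, 20, 19, 17] := by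
  decide +kernel

theorem map_A {α : Type*} (f : ℕ → α) : ωA.map (fun i => f i.val) = [f 0, f 3] := rfl

theorem weights_neg : ([22, 20, 19, 17] : List ℕ).map (wList chevF4) =
    [[0, 2, -2, 1], [1, -2, 1, 0], [1, 0, -1, 1], [2, -2, 0, 1]] := by
  decide +kernel

/-- A longest word. -/
def longWord : List (Fin chevF4.rank) := orbWord chevF4 Os [0, 1, 0, 1, 0, 1, 0, 1]

theorem okOpp_F4 : okOpp chevF4 Os longWord = true := by decide +kernel

variable {K : Type*} [Field K] [Fintype K] {m : ℕ} (S : Setup K m)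

theorem two_le : 2 ≤ S.data.q := by
  show 2 ≤ 2 ^ (2 * m + 1)
  exact Nat.le_self_pow (by omega) 2

/-- The field maps along the pair. -/
noncomputable def φA (r : ℕ) : K →+* K := if r = 33 then S.T.fr else RingHom.id K

theorem XA_eq (t : K) :
    (orbR1 S.data condA (φA S)).X t = (factsF4.sys K).prodOver [33, 24] (cP m t) ∧
    (orbR1 S.data condA (φA S)).Y t = (factsF4.sys K).prodOver [14, 23] (cP m t) := by
  rw [orbR1_X, orbR1_Y, listsA.1]
  simp [CommSys.prodOver, Facts.sys_x, φA, cP, S.hfr, show chevF4.neg 33 = 14 from rfl,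
    show chevF4.neg 24 = 23 from rfl]

/-- The rank one group of the pair. -/
noncomputable def RA : R1 ↥S.data.G1 K :=
  orbR1G S.data condA (φA S) (fun t => by rw [(XA_eq S t).1]; exact S.pair_mem (by simp) t)
    (fun t => by rw [(XA_eq S t).2]; exact S.pair_mem (by simp) t)

theorem coe_RA (t : K) :
    ((RA S).X t : GL chevF4.Idx K) = (factsF4.sys K).prodOver [33, 24] (cP m t) ∧
    ((RA S).Y t : GL chevF4.Idx K) = (factsF4.sys K).prodOver [14, 23] (cP m t) := XA_eq S t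

/-- An element of the root group of the middle orbit. -/
noncomputable def W (a v : K) : ↥S.data.G1 :=
  ⟨S.w4F 27 25 28 30 a v, S.b2_mem (Or.inl ⟨rfl, rfl, rfl, rfl⟩) a v⟩

/-- An element of the opposite root group of the middle orbit. -/
noncomputable def Q (a v : K) : ↥S.data.G1 :=
  ⟨S.w4F 20 22 19 17 a v, S.b2_mem (Or.inr ⟨rfl, rfl, rfl, rfl⟩) a v⟩

theorem W_mul (a v a' v' : K) : W S a v * W S a' v' = W S (a + a') (v + v' + a ^ 2 ^ m * a') :=
  Subtype.ext (S.w4F_mul a v a' v')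

theorem W_zero : W S 0 0 = 1 :=
  Subtype.ext (by simp [W, Lie.F4.Setup.w4F, Facts.w4, factsF4.xg_zero, zero_pow])

theorem W_inj {a v a' v' : K} (h : W S a v = W S a' v') : a = a' ∧ v = v' := by
  have h1 : S.w4F 27 25 28 30 a v = S.w4F 27 25 28 30 a' v' := congrArg Subtype.val h
  rw [Lie.F4.Setup.w4F, Lie.F4.Setup.w4F, S.w4_eq_prodOver, S.w4_eq_prodOver] at h1
  have hcl := S.closed b2_mem_Os
  rw [show orbL chevF4 ((fnodes chevF4 [1, 2, 1, 2]).map Fin.val) = [25, 27, 28, 30] from listsB.1] at hcl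
  have e1 := factsF4.prodOver_inj hcl h1 25 (by simp)
  have e2 := factsF4.prodOver_inj hcl h1 28 (by simp)
  simp only [show (28 : ℕ) ≠ 25 by norm_num, show (28 : ℕ) ≠ 27 by norm_num, if_false, if_true] at e1 e2
  subst e1
  exact ⟨rfl, by simpa using e2⟩

theorem mem_XoB {g : ↥S.data.G1} : g ∈ Xo S.data ωB ↔ ∃ a v, g = W S a v := by
  refine ⟨fun hg => ?_, ?_⟩
  · have h : (g : GL chevF4.Idx K) ∈ (factsF4.tsys K).US (orbL chevF4 (ωB.map Fin.val)) := hg
    have hcl := S.closed b2_mem_Os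
    rw [show orbL chevF4 ((fnodes chevF4 [1, 2, 1, 2]).map Fin.val) = [25, 27, 28, 30] from listsB.1] at hcl
    rw [listsB.1] at h
    obtain ⟨a, v, he⟩ := S.fix_b2 hcl h (S.le_fix g.2)
    exact ⟨a, v, Subtype.ext he⟩
  · rintro ⟨a, v, rfl⟩
    show S.w4F 27 25 28 30 a v ∈ (factsF4.tsys K).US (orbL chevF4 (ωB.map Fin.val))
    rw [listsB.1]
    exact S.w4F_mem_US a v

theorem Q_mem (a v : K) : Q S a v ∈ Yo S.data ωB := by
  show S.w4F 20 22 19 17 a v ∈ (factsF4.tsys K).US (Twist.negL chevF4 ωB)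
  rw [listsB.2]
  have h : ∀ r ∈ ([22, 20, 19, 17] : List ℕ), ∀ z : K,
      factsF4.xg r z ∈ (factsF4.tsys K).US [22, 20, 19, 17] := fun r hr z => CommSys.x_mem_US _ hr z
  exact mul_mem (mul_mem (mul_mem (h 20 (by simp) _) (h 22 (by simp) _)) (h 19 (by simp) _)) (h 17 (by simp) _)

theorem cardA : Nat.card K = Nat.card (Xo S.data ωA) := by
  have h : Nat.card (Xo S.data ωA) ^ 2 = (2 ^ (2 * m + 1)) ^ (orbL chevF4 (ωA.map Fin.val)).length :=
    card_Xo S.data condA.mem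
  rw [listsA.2] at h
  rw [S.hK]
  exact (Nat.pow_left_injective two_ne_zero h).symm

theorem cardB : Nat.card (Xo S.data ωB) = (2 ^ (2 * m + 1)) ^ 2 := by
  have h : Nat.card (Xo S.data ωB) ^ 2 = (2 ^ (2 * m + 1)) ^ (orbL chevF4 (ωB.map Fin.val)).length :=
    card_Xo S.data b2_mem_Os
  rw [listsB.1, show ([25, 27, 28, 30] : List ℕ).length = 2 * 2 from rfl, pow_mul] at h
  exact Nat.pow_left_injective two_ne_zero h

theorem Yo_fixed {θ : MulAut ↥S.data.G1} (hθ : θ ∈ stab (U1 S.data) (V1 S.data)) {ω : List (Fin chevF4.rank)}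
    (hω : ω ∈ Os) {g : ↥S.data.G1} (hg : g ∈ Yo S.data ω) : θ g ∈ Yo S.data ω := by
  obtain ⟨ω', hω', he⟩ := exists_Yo_image S.data (two_le S) hθ hω
  have h1 : Nat.card (Yo S.data ω') = Nat.card (Yo S.data ω) := by
    rw [← he]
    exact (Nat.card_congr ((Yo S.data ω).equivMapOfInjective _ θ.injective).toEquiv).symm
  rw [card_Yo S.data ⟨ω', hω'⟩, card_Yo S.data ⟨ω, hω⟩] at h1
  dsimp only at h1
  have h2 : (2 : ℕ) ≤ 2 ^ (2 * m + 1) := two_le S
  have hA : Nat.card (Xo S.data ωA) = 2 ^ (2 * m + 1) := (cardA S).symm.trans S.hK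
  have hB := cardB S
  have hlt : 2 ^ (2 * m + 1) < (2 ^ (2 * m + 1)) ^ 2 := lt_self_pow₀ (by omega) (by norm_num)
  have hee : ω' = ω := by
    rcases mem_Os hω' with rfl | rfl <;> rcases mem_Os hω with rfl | rfl
    · rfl
    · omega
    · omega
    · rfl
  subst hee
  rw [← he]
  exact ⟨g, hg, rfl⟩

theorem Xo_fixed' {θ : MulAut ↥S.data.G1} (hθ : θ ∈ stab (U1 S.data) (V1 S.data)) {ω : List (Fin chevF4.rank)}
    (hω : ω ∈ Os) {g : ↥S.data.G1} (hg : g ∈ Xo S.data ω) : θ g ∈ Xo S.data ω :=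
  Xo_fixed S.data (two_le S) (opp_of_ok okOpp_F4) (fun _ h _ hω' _ hg' => Yo_fixed S h hω' hg') hθ hω hg

/-! ### Torus elements -/

/-- A torus element. -/
noncomputable def tz (t u : Kˣ) : ↥S.data.G1 := ⟨torus chevF4 K (S.crd t u), S.torus_mem t u⟩

theorem tz_inj {t u t' u' : Kˣ} (h : tz S t u = tz S t' u') : t = t' ∧ u = u' := by
  have e := factsF4.torus_injective (F := K) kerCertF4 (congrArg Subtype.val h)
  exact ⟨congrFun e 3, congrFun e 2⟩

theorem mem_H1_iff {g : ↥S.data.G1} : g ∈ H1 S.data ↔ ∃ t u, g = tz S t u := by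
  refine ⟨fun hg => ?_, ?_⟩
  · obtain ⟨t, u, h⟩ := S.exists_crd (h := (g : GL chevF4.Idx K)) hg (S.le_fix g.2)
    exact ⟨t, u, Subtype.ext h⟩
  · rintro ⟨t, u, rfl⟩
    show torus chevF4 K (S.crd t u) ∈ chevF4.diagonalSubgroup K
    rw [factsF4.diagonalSubgroup_eq]
    exact ⟨_, rfl⟩

theorem RA_h (t : Kˣ) : (RA S).h (t : K) = tz S t 1 := by
  apply Subtype.ext
  show (orbR1 S.data condA (φA S)).h (t : K) = torus chevF4 K (S.crd t 1)
  rw [orbR1_h, map_A (fun a => factsF4.hg (chevF4.simple a) (φA S (chevF4.simple a) (t : K)))]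
  have e : S.crd t 1 = Pi.mulSingle 0 (t ^ 2 ^ m) * Pi.mulSingle 3 t := by
    funext j
    match j with
    | ⟨0, _⟩ => show t ^ 2 ^ m = t ^ 2 ^ m * 1; simp
    | ⟨1, _⟩ => show (1 : Kˣ) ^ 2 ^ m = 1 * 1; simp
    | ⟨2, _⟩ => show (1 : Kˣ) = 1 * 1; simp
    | ⟨3, _⟩ => show t = 1 * t; simp
  rw [e, map_mul, factsF4.torus_single, factsF4.torus_single]
  simp [φA, S.hfr, show chevF4.simple 0 = 33 from rfl, show chevF4.simple 3 = 24 from rfl,
    show chevF4.simple (3 % chevF4.rank) = 24 from rfl]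

/-- The scalar of a torus element on the pair. -/
def lam (t u : Kˣ) : Kˣ := t ^ 2 * u⁻¹

/-- The scalar of a torus element on the middle orbit. -/
def al (m : ℕ) (t u : Kˣ) : Kˣ := u ^ 2 * (u ^ (2 * 2 ^ m) * t)⁻¹

include S in
theorem chars (t u : Kˣ) :
    torChar chevF4 (S.crd t u) 24 = lam t u ∧ torChar chevF4 (S.crd t u) 33 = lam t u ^ 2 ^ m ∧
    torChar chevF4 (S.crd t u) 25 = al m t u ∧ torChar chevF4 (S.crd t u) 27 = al m t u ^ 2 ^ m ∧
    torChar chevF4 (S.crd t u) 28 = al m t u ^ (2 ^ m + 1) ∧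
    torChar chevF4 (S.crd t u) 30 = al m t u ^ (2 * 2 ^ m + 1) := by
  have hw := weights_pos
  simp only [List.map_cons, List.map_nil, List.cons.injEq, and_true] at hw
  obtain ⟨w33, w24, w27, w25, w28, w30⟩ := hw
  have hU : u ^ (2 * 2 ^ m) = (u ^ 2 ^ m) ^ 2 := by rw [← pow_mul, mul_comm]
  have hUe : (u ^ (2 * 2 ^ m)) ^ 2 ^ m = u := Units.ext (by
    rw [Units.val_pow_eq_pow_val, Units.val_pow_eq_pow_val]; exact (S.pow_twist (u : K)).2)
  have hae : al m t u ^ 2 ^ m = (u ^ 2 ^ m) ^ 2 * (u * t ^ 2 ^ m)⁻¹ := by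
    rw [al, mul_pow, inv_pow, mul_pow, hUe, pow_right_comm]
  have h28 : al m t u ^ (2 ^ m + 1) = al m t u ^ 2 ^ m * al m t u := pow_succ _ _
  have h30 : al m t u ^ (2 * 2 ^ m + 1) = (al m t u ^ 2 ^ m) ^ 2 * al m t u := by
    rw [pow_succ, ← pow_mul, mul_comm 2]
  refine ⟨?_, ?_, ?_, ?_, ?_, ?_⟩
  · rw [torChar_eval _ (by norm_num) w24]
    apply Units.ext
    simp [Lie.F4.Setup.crd, lam, mul_comm]
  · rw [torChar_eval _ (by norm_num) w33, lam, mul_pow, inv_pow, ← pow_mul, mul_comm 2 (2 ^ m), pow_mul]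
    apply Units.ext
    simp [Lie.F4.Setup.crd, mul_comm]
  · rw [torChar_eval _ (by norm_num) w25, al, hU]
    apply Units.ext
    simp [Lie.F4.Setup.crd]
    field_simp
  · rw [torChar_eval _ (by norm_num) w27, hae]
    apply Units.ext
    simp [Lie.F4.Setup.crd]
    field_simp
  · rw [torChar_eval _ (by norm_num) w28, h28, hae, al, hU]
    apply Units.ext
    simp [Lie.F4.Setup.crd]
    field_simp
  · rw [torChar_eval _ (by norm_num) w30, h30, hae, al, hU]
    apply Units.ext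
    simp [Lie.F4.Setup.crd]
    field_simp

theorem tz_conj_X (t u : Kˣ) (s : K) :
    tz S t u * (RA S).X s * (tz S t u)⁻¹ = (RA S).X ((lam t u : K) * s) := by
  apply Subtype.ext
  rw [Subgroup.coe_mul, Subgroup.coe_mul, Subgroup.coe_inv, (coe_RA S s).1, (coe_RA S _).1]
  obtain ⟨h24, h33, -⟩ := chars S t u
  refine hom_prodOver factsF4 (MulAut.conj (tz S t u : GL chevF4.Idx K)).toMonoidHom [33, 24] _ _ fun r hr => ?_
  show torus chevF4 K (S.crd t u) * factsF4.xg r (cP m s r) * (torus chevF4 K (S.crd t u))⁻¹ = _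
  simp only [List.mem_cons, List.not_mem_nil, or_false] at hr
  rcases hr with rfl | rfl <;> rw [factsF4.torus_conj _ (by decide +kernel)] <;> congr 1
  · rw [h33]; simp [cP, mul_pow]
  · rw [h24]; simp [cP]

theorem tz_conj_W (t u : Kˣ) (a v : K) : tz S t u * W S a v * (tz S t u)⁻¹ =
    W S ((al m t u : K) * a) ((al m t u : K) ^ (2 ^ m + 1) * v) := by
  apply Subtype.ext
  obtain ⟨-, -, c25, c27, c28, c30⟩ := chars S t u
  set c := S.crd t u
  set L := al m t u
  show torus chevF4 K c * S.w4F 27 25 28 30 a v * (torus chevF4 K c)⁻¹ = S.w4F 27 25 28 30 _ _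
  have e : torus chevF4 K c * S.w4F 27 25 28 30 a v * (torus chevF4 K c)⁻¹ =
      (torus chevF4 K c * factsF4.xg 27 (a ^ 2 ^ m) * (torus chevF4 K c)⁻¹) *
      (torus chevF4 K c * factsF4.xg 25 a * (torus chevF4 K c)⁻¹) *
      (torus chevF4 K c * factsF4.xg 28 (a ^ (2 ^ m + 1) + v) * (torus chevF4 K c)⁻¹) *
      (torus chevF4 K c * factsF4.xg 30 (v ^ (2 * 2 ^ m)) * (torus chevF4 K c)⁻¹) := by
    rw [Lie.F4.Setup.w4F, Facts.w4]; group
  rw [e, factsF4.torus_conj c (show 27 < chevF4.nroots by decide +kernel),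
    factsF4.torus_conj c (show 25 < chevF4.nroots by decide +kernel),
    factsF4.torus_conj c (show 28 < chevF4.nroots by decide +kernel),
    factsF4.torus_conj c (show 30 < chevF4.nroots by decide +kernel), c27, c25, c28, c30,
    Lie.F4.Setup.w4F, Facts.w4]
  simp only [Units.val_pow_eq_pow_val, mul_pow, ← mul_add]
  congr 2
  have h1 := (S.pow_twist (L : K)).1
  rw [← pow_mul] at h1
  rw [← pow_mul (L : K), show (2 ^ m + 1) * (2 * 2 ^ m) = 2 * 2 ^ m + 2 ^ m * (2 * 2 ^ m) by ring,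
    pow_add (L : K) (2 * 2 ^ m) (2 ^ m * (2 * 2 ^ m)), h1, pow_succ]

theorem al_eq_one {t u : Kˣ} {a v : K} (hne : W S a v ≠ 1)
    (h : tz S t u * W S a v * (tz S t u)⁻¹ = W S a v) : al m t u = 1 := by
  rw [tz_conj_W] at h
  obtain ⟨h1, h2⟩ := W_inj S h
  by_cases ha : a = 0
  · have hv : v ≠ 0 := fun hv => hne (by rw [ha, hv, W_zero])
    have h3 : al m t u ^ (2 ^ m + 1) = 1 := Units.ext (by
      rw [Units.val_pow_eq_pow_val]; exact mul_right_cancel₀ hv (h2.trans (one_mul v).symm))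
    refine (powCoprime S.coprime_exp).injective (a₂ := 1) ?_
    show al m t u ^ (2 * 2 ^ m + 2) = 1 ^ (2 * 2 ^ m + 2)
    rw [show 2 * 2 ^ m + 2 = (2 ^ m + 1) * 2 by ring, pow_mul, h3, one_pow, one_pow]
  · exact Units.ext (mul_right_cancel₀ ha (h1.trans (one_mul a).symm))

theorem centralise_Q {t u : Kˣ} (h : al m t u = 1) (a v : K) :
    tz S t u * Q S a v * (tz S t u)⁻¹ = Q S a v := by
  obtain ⟨-, -, c25, c27, c28, c30⟩ := chars S t u
  have hw := weights_pos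
  have hn := weights_neg
  simp only [List.map_cons, List.map_nil, List.cons.injEq, and_true] at hw hn
  obtain ⟨-, -, w27, w25, w28, w30⟩ := hw
  obtain ⟨n22, n20, n19, n17⟩ := hn
  set c := S.crd t u
  rw [h, one_pow] at c27 c28 c30
  rw [h] at c25
  have d22 : torChar chevF4 c 22 = 1 := by
    rw [← inv_one, ← c25, torChar_eval _ (by norm_num) n22, torChar_eval _ (by norm_num) w25]
    apply Units.ext; simp; field_simp
  have d20 : torChar chevF4 c 20 = 1 := by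
    rw [← inv_one, ← c27, torChar_eval _ (by norm_num) n20, torChar_eval _ (by norm_num) w27]
    apply Units.ext; simp; field_simp
  have d19 : torChar chevF4 c 19 = 1 := by
    rw [← inv_one, ← c28, torChar_eval _ (by norm_num) n19, torChar_eval _ (by norm_num) w28]
    apply Units.ext; simp; field_simp
  have d17 : torChar chevF4 c 17 = 1 := by
    rw [← inv_one, ← c30, torChar_eval _ (by norm_num) n17, torChar_eval _ (by norm_num) w30]
    apply Units.ext; simp; field_simp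
  apply Subtype.ext
  show (MulAut.conj (torus chevF4 K c)) (S.w4F 20 22 19 17 a v) = S.w4F 20 22 19 17 a v
  rw [Lie.F4.Setup.w4F, Facts.w4, map_mul, map_mul, map_mul]
  simp only [MulAut.conj_apply, factsF4.torus_conj c (show 20 < chevF4.nroots by decide +kernel),
    factsF4.torus_conj c (show 22 < chevF4.nroots by decide +kernel),
    factsF4.torus_conj c (show 19 < chevF4.nroots by decide +kernel),
    factsF4.torus_conj c (show 17 < chevF4.nroots by decide +kernel), d22, d20, d19, d17, Units.val_one, one_mul]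

theorem gens_cases {g : GL chevF4.Idx K}
    (hg : g ∈ {g : GL chevF4.Idx K | ∃ w ∈ f4Words K (2 ^ m),
      (g : Matrix chevF4.Idx chevF4.Idx K) = chevF4.wordMat K w}) :
    (∃ L s, (L = [33, 24] ∨ L = [14, 23]) ∧ g = (factsF4.sys K).prodOver L (cP m s)) ∨
      ∃ a v, g = S.w4F 27 25 28 30 a v ∨ g = S.w4F 20 22 19 17 a v := by
  obtain ⟨w, hw, hgw⟩ := hg
  rw [show g = factsF4.wg w from Units.ext (by rw [hgw, factsF4.coe_wg])]
  rcases hw with ⟨s, rfl | rfl⟩ | ⟨a, v, rfl | rfl⟩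
  · exact Or.inl ⟨_, s, Or.inl rfl, by
      simp [f4PairWord, f4p1, f4p4, Facts.wg, CommSys.prodOver, Facts.sys_x, cP]⟩
  · exact Or.inl ⟨_, s, Or.inr rfl, by
      simp [f4PairWord, f4m1, f4m4, Facts.wg, CommSys.prodOver, Facts.sys_x, cP]⟩
  · exact Or.inr ⟨a, v, Or.inl (by
      simp [b2ClassWord, f4a, f4b, f4ab, f4aab, Facts.wg, Lie.F4.Setup.w4F, Facts.w4, mul_assoc])⟩
  · exact Or.inr ⟨a, v, Or.inr (by
      simp [b2ClassWord, f4ma, f4mb, f4mab, f4maab, Facts.wg, Lie.F4.Setup.w4F, Facts.w4, mul_assoc])⟩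

variable (hm : 1 ≤ m)

include hm

include S in
theorem exists_moved : ∃ a : K, (a ^ 2 ^ m) ^ 2 ^ m ≠ a := by
  obtain ⟨z, hz⟩ := S.exists_unit hm
  refine ⟨z, fun h => hz (Units.ext ?_)⟩
  have h2 : (((z : K) ^ 2 ^ m) ^ 2 ^ m) ^ 2 = z := by
    rw [← pow_mul ((z : K) ^ 2 ^ m), mul_comm]; exact (S.pow_twist (z : K)).1
  rw [h, pow_two] at h2
  exact mul_right_cancel₀ z.ne_zero (h2.trans (one_mul _).symm)

/-- An automorphism trivial on the pair and with scalar one on the middle orbit is trivial. -/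
theorem eq_one {ψ : MulAut ↥S.data.G1} (hψ : ψ ∈ stab (U1 S.data) (V1 S.data))
    (hA : (RA S).NF ψ 1 1) (hB : ∃ v, ψ (W S 1 0) = W S 1 v) : ψ = 1 := by
  classical
  have hXA : ∀ s, ψ ((RA S).X s) = (RA S).X s ∧ ψ ((RA S).Y s) = (RA S).Y s := fun s => by
    obtain ⟨h1, h2⟩ := hA s
    simp only [Units.val_one, one_mul, inv_one, RingAut.one_apply] at h1 h2
    exact ⟨h1, h2⟩
  have hT : ∀ t : Kˣ, ψ (tz S t 1) = tz S t 1 := fun t => by
    rw [← RA_h, R1.h, map_mul, hA.map_n, hA.map_n]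
    simp
  obtain ⟨v0, hv0⟩ := hB
  have h0 : (0 : K) ^ 2 ^ m = 0 := zero_pow (by positivity)
  choose g β hg using fun v : K => (mem_XoB S).1 (Xo_fixed' S hψ b2_mem_Os
    ((mem_XoB S).2 ⟨(0 : K), v, rfl⟩ : W S 0 v ∈ Xo S.data ωB))
  have hg0 : ∀ v, g v = 0 := fun v => by
    by_contra hne
    have e := congrArg ψ (W_mul S 0 v 0 v)
    rw [add_zero, h0, zero_mul, add_zero, ← two_mul v, S.h2, zero_mul, W_zero, map_one, map_mul, hg, W_mul,
      ← W_zero S] at e
    have e2 := (W_inj S e).2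
    rw [← two_mul (β v), S.h2, zero_mul, zero_add] at e2
    exact hne ((mul_eq_zero.1 e2).elim eq_zero_of_pow_eq_zero id)
  have hal : ∀ t : Kˣ, al m t 1 = t⁻¹ := fun t => by simp [al]
  have img : ∀ a : K, ψ (W S a 0) = W S a (a ^ (2 ^ m + 1) * v0) := fun a => by
    by_cases ha : a = 0
    · subst ha; rw [W_zero, map_one, zero_pow (Nat.succ_ne_zero _), zero_mul, W_zero]
    have e := congrArg ψ (tz_conj_W S (Units.mk0 a ha)⁻¹ 1 1 0)
    rw [map_mul, map_mul, map_inv, hT, hv0, tz_conj_W, hal, inv_inv, Units.val_mk0, mul_one, mul_zero] at e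
    exact e.symm
  have key : ∀ a s : K, β (a ^ 2 ^ m * s) =
      a ^ 2 ^ m * s + v0 * (a ^ 2 ^ m * s + a * s ^ 2 ^ m) := fun a s => by
    have e := congrArg ψ (W_mul S a 0 s 0)
    rw [add_zero, zero_add, map_mul, img, img,
      show W S (a + s) (a ^ 2 ^ m * s) = W S (a + s) 0 * W S 0 (a ^ 2 ^ m * s) by simp [W_mul],
      map_mul, img, hg, hg0, W_mul, W_mul, mul_zero, add_zero, add_zero] at e
    have e2 := (W_inj S e).2
    rw [pow_succ, pow_succ, pow_succ, S.fr_add] at e2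
    linear_combination -e2 + (-v0 * (a ^ 2 ^ m * s + a * s ^ 2 ^ m)) * S.h2
  have hv00 : v0 = 0 := by
    obtain ⟨a, ha⟩ := exists_moved S hm
    have e1 := key a 1
    have e2 := key 1 (a ^ 2 ^ m)
    rw [one_pow, mul_one, mul_one] at e1
    rw [one_pow, one_mul, one_mul] at e2
    have h : v0 * ((a ^ 2 ^ m) ^ 2 ^ m - a) = 0 := by linear_combination e1 - e2
    exact (mul_eq_zero.1 h).resolve_right (sub_ne_zero.2 ha)
  have hXB : ∀ a v, ψ (W S a v) = W S a v := fun a v => by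
    have hb : β v = v := by
      have := key 1 v
      rwa [one_pow, one_mul, hv00, zero_mul, add_zero] at this
    rw [show W S a v = W S a 0 * W S 0 v by simp [W_mul], map_mul, img, hg, hg0, hb, hv00, mul_zero]
  obtain ⟨a0, ha0, n, hn, -⟩ := exists_n0 S.data
  have hsw := fun g => longest_conj S.data ha0 hn (g := g)
  have hk : n⁻¹ * ψ n ∈ H1 S.data := by
    rw [← conj_mem_stab S.data (two_le S)]
    refine stab_of_le _ _ (fun g hg => ?_) fun g hg => ?_
    · rw [MulAut.conj_apply, ← (hsw _).1, show n * (n⁻¹ * ψ n * g * (n⁻¹ * ψ n)⁻¹) * n⁻¹ =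
        ψ n * g * (ψ n)⁻¹ by group, ← ψ.apply_symm_apply g, ← map_inv, ← map_mul, ← map_mul, hψ.2, (hsw _).1]
      exact (hψ.1 _).1 (by rwa [ψ.apply_symm_apply])
    · rw [MulAut.conj_apply, ← (hsw _).2, show n * (n⁻¹ * ψ n * g * (n⁻¹ * ψ n)⁻¹) * n⁻¹ =
        ψ n * g * (ψ n)⁻¹ by group, ← ψ.apply_symm_apply g, ← map_inv, ← map_mul, ← map_mul, hψ.1, (hsw _).2]
      exact (hψ.2 _).1 (by rwa [ψ.apply_symm_apply])
  obtain ⟨t, u, hku⟩ := (mem_H1_iff S).1 (inv_mem hk)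
  have hopp := opp_of_ok (hF := factsF4) okOpp_F4
  have hY : ∀ y ∈ Yo S.data ωB, ψ y = tz S t u * y * (tz S t u)⁻¹ := fun y hy => by
    have hx : n * y * n⁻¹ ∈ Xo S.data ωB := by
      rw [← map_Yo_n0 S.data hopp ha0 hn (ω := ωB) b2_mem_Os]
      exact ⟨y, hy, rfl⟩
    obtain ⟨a, v, he⟩ := (mem_XoB S).1 hx
    have h1 : ψ (n * y * n⁻¹) = n * y * n⁻¹ := by rw [he, hXB]
    rw [map_mul, map_mul, map_inv] at h1
    rw [← hku, show ψ y = (ψ n)⁻¹ * (ψ n * ψ y * (ψ n)⁻¹) * ψ n by group, h1]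
    group
  have hal1 : al m t u = 1 := by
    set k := tz S t u with hkdef
    have hkH : (k : GL chevF4.Idx K) ∈ (factsF4.tsys K).H := by
      rw [factsF4.tsys_H]; exact (mem_H1_iff S).2 ⟨t, u, rfl⟩
    obtain ⟨-, c, hc, hnB⟩ := S.data.nO_spec ⟨ωB, b2_mem_Os⟩
    set N := nOrb S.data ⟨ωB, b2_mem_Os⟩ with hN
    have hd : ((k * N * k⁻¹ * N⁻¹ : ↥S.data.G1) : GL chevF4.Idx K) ∈ (factsF4.tsys K).H := by
      rw [show k * N * k⁻¹ * N⁻¹ = k * (N * k⁻¹ * N⁻¹) by group, Subgroup.coe_mul, Subgroup.coe_mul,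
        Subgroup.coe_mul, Subgroup.coe_inv, Subgroup.coe_inv]
      exact mul_mem hkH ((factsF4.tsys K).H_normal_in_N (S.data.nO_mem_N _) (inv_mem hkH))
    have cell : ∀ y ∈ Yo S.data ωB, y ≠ 1 → ∃ b ∈ S.data.bnPair.B, ∃ x ∈ Xo S.data ωB, y = b * N * x :=
      fun y hy hy1 => by
      rw [← Po_inter_V1 S.data (two_le S) ⟨ωB, b2_mem_Os⟩] at hy
      exact (mem_Po S.data hy.1).resolve_left fun hB =>
        hy1 (Subtype.ext (factsF4.B_inter_V ((mem_bnB1 S.data).1 hB) hy.2))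
    have mk : ∀ a v : K, W S a v ≠ 1 → n⁻¹ * W S a v * n ∈ Yo S.data ωB ∧ n⁻¹ * W S a v * n ≠ 1 := fun a v hne => by
      refine ⟨?_, fun h => hne ?_⟩
      · have h : W S a v ∈ (Yo S.data ωB).map (MulAut.conj n).toMonoidHom := by
          rw [map_Yo_n0 S.data hopp ha0 hn (ω := ωB) b2_mem_Os]; exact (mem_XoB S).2 ⟨a, v, rfl⟩
        rwa [mem_map_conj] at h
      · rw [show W S a v = n * (n⁻¹ * W S a v * n) * n⁻¹ by group, h]; group
    have hne1 : ∀ v : K, W S 1 v ≠ 1 := fun v h => one_ne_zero (W_inj S (h.trans (W_zero S).symm)).1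
    obtain ⟨hy1, hy1'⟩ := mk 1 0 (hne1 0)
    obtain ⟨hy2, hy2'⟩ := mk 1 1 (hne1 1)
    obtain ⟨b1, hb1, x1, hx1, he1⟩ := cell _ hy1 hy1'
    obtain ⟨b2, hb2, x2, hx2, he2⟩ := cell _ hy2 hy2'
    set y1 := n⁻¹ * W S 1 0 * n with hy1def
    set y2 := n⁻¹ * W S 1 1 * n with hy2def
    have hfx : ∀ x ∈ Xo S.data ωB, ψ x = x := fun x hx => by
      obtain ⟨a, v, rfl⟩ := (mem_XoB S).1 hx
      exact hXB a v
    have hxne : x1⁻¹ * x2 ≠ 1 := fun h => by
      rw [inv_mul_eq_one] at h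
      have h' : y2 * y1⁻¹ = b2 * b1⁻¹ := by rw [he1, he2, h]; group
      have h1 : y2 * y1⁻¹ = 1 := Subtype.ext (factsF4.B_inter_V
        ((mem_bnB1 S.data).1 (h' ▸ mul_mem hb2 (inv_mem hb1)))
        (Yo_le_V1 S.data _ (mul_mem hy2 (inv_mem hy1))))
      rw [mul_inv_eq_one, hy1def, hy2def, mul_left_inj, mul_right_inj] at h1
      exact one_ne_zero (W_inj S h1).2
    have heq : (k * b2 * k⁻¹) * (k * N * k⁻¹ * N⁻¹) * N * (k * x2 * k⁻¹) =
        (ψ (b2 * b1⁻¹) * (k * b1 * k⁻¹) * (k * N * k⁻¹ * N⁻¹)) * N * (k * x1 * k⁻¹ * (x1⁻¹ * x2)) := by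
      calc (k * b2 * k⁻¹) * (k * N * k⁻¹ * N⁻¹) * N * (k * x2 * k⁻¹) = k * y2 * k⁻¹ := by rw [he2]; group
        _ = ψ y2 := (hY _ hy2).symm
        _ = ψ (b2 * b1⁻¹ * y1 * (x1⁻¹ * x2)) := by rw [he1, he2]; congr 1; group
        _ = ψ (b2 * b1⁻¹) * (k * y1 * k⁻¹) * (x1⁻¹ * x2) := by
          rw [map_mul, map_mul _ _ y1, hY _ hy1, hfx _ (mul_mem (inv_mem hx1) hx2)]
        _ = _ := by rw [he1]; group
    have hkB : k ∈ S.data.bnPair.B := (mem_bnB1 S.data).2 ((factsF4.tsys K).H_le_B hkH)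
    have hdB : k * N * k⁻¹ * N⁻¹ ∈ S.data.bnPair.B := (mem_bnB1 S.data).2 ((factsF4.tsys K).H_le_B hd)
    have hbb : ψ (b2 * b1⁻¹) ∈ S.data.bnPair.B := (std_B S.data (two_le S) hψ).2 (mul_mem hb2 (inv_mem hb1))
    have hkx : ∀ x ∈ Xo S.data ωB, k * x * k⁻¹ ∈ Xo S.data ωB := fun x hx => by
      obtain ⟨a, v, rfl⟩ := (mem_XoB S).1 hx
      exact (mem_XoB S).2 ⟨_, _, tz_conj_W S t u a v⟩
    have hL := S.T.invList_wO S.hOs (ω := ωB) b2_mem_Os
    obtain ⟨-, -, he⟩ := factsF4.bruhat_unique (w := S.T.wO ωB) (v := S.T.wO ωB)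
      (b := ((k * b2 * k⁻¹ * (k * N * k⁻¹ * N⁻¹) : ↥S.data.G1) : GL chevF4.Idx K) * c)
      (b' := ((ψ (b2 * b1⁻¹) * (k * b1 * k⁻¹) * (k * N * k⁻¹ * N⁻¹) : ↥S.data.G1) : GL chevF4.Idx K) * c)
      (u := ((k * x2 * k⁻¹ : ↥S.data.G1) : GL chevF4.Idx K))
      (u' := ((k * x1 * k⁻¹ * (x1⁻¹ * x2) : ↥S.data.G1) : GL chevF4.Idx K))
      (mul_mem ((mem_bnB1 S.data).1 (mul_mem (mul_mem (mul_mem hkB hb2) (inv_mem hkB)) hdB))
        ((factsF4.tsys K).H_le_B hc))
      (mul_mem ((mem_bnB1 S.data).1 (mul_mem (mul_mem hbb (mul_mem (mul_mem hkB hb1) (inv_mem hkB))) hdB))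
        ((factsF4.tsys K).H_le_B hc))
      (by rw [hL]; exact hkx _ hx2)
      (by rw [hL]; exact mul_mem (hkx _ hx1) (mul_mem (inv_mem hx1) hx2))
      (by
        have h := congrArg Subtype.val heq
        simp only [Subgroup.coe_mul, Subgroup.coe_inv] at h ⊢
        rw [show (N : GL chevF4.Idx K) = c * (factsF4.tsys K).nW (S.T.wO ωB) from hnB] at h ⊢
        simp only [mul_assoc] at h ⊢
        exact h)
    have hcomm : k * (x1⁻¹ * x2) * k⁻¹ = x1⁻¹ * x2 := by
      have h := Subtype.ext he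
      rw [show k * (x1⁻¹ * x2) * k⁻¹ = (k * x1 * k⁻¹)⁻¹ * (k * x2 * k⁻¹) by group, h]
      group
    obtain ⟨a, v, hav⟩ := (mem_XoB S).1 (mul_mem (inv_mem hx1) hx2)
    rw [hav] at hxne hcomm
    exact al_eq_one S hxne hcomm
  refine aut_ext fun g hg => ?_
  show ψ _ = _
  rcases gens_cases S hg with ⟨L, s, rfl | rfl, rfl⟩ | ⟨a, v, rfl | rfl⟩
  · exact (congrArg ψ (Subtype.ext (coe_RA S s).1.symm)).trans ((hXA s).1.trans (Subtype.ext (coe_RA S s).1))
  · exact (congrArg ψ (Subtype.ext (coe_RA S s).2.symm)).trans ((hXA s).2.trans (Subtype.ext (coe_RA S s).2))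
  · exact hXB a v
  · exact (hY _ (Q_mem S a v)).trans (centralise_Q S hal1 a v)

omit hm in
theorem scalar_exists {θ : MulAut ↥S.data.G1} (hθ : θ ∈ stab (U1 S.data) (V1 S.data)) :
    ∃ (b : Kˣ) (v : K), θ (W S 1 0) = W S b v := by
  obtain ⟨a, v, h⟩ := (mem_XoB S).1 (Xo_fixed' S hθ b2_mem_Os
    ((mem_XoB S).2 ⟨1, 0, rfl⟩ : W S 1 0 ∈ Xo S.data ωB))
  have ha : a ≠ 0 := by
    rintro rfl
    have h0 : (0 : K) ^ 2 ^ m = 0 := zero_pow (by positivity)
    have e1 : θ (W S 1 0 * W S 1 0) = θ 1 := by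
      rw [map_mul, h, W_mul, add_zero, ← two_mul v, S.h2, zero_mul, h0, zero_mul, add_zero, W_zero, map_one]
    have e2 := θ.injective e1
    rw [W_mul, ← W_zero S] at e2
    simpa using (W_inj S e2).2
  exact ⟨Units.mk0 a ha, v, h⟩

omit hm in
theorem NF_exists {θ : MulAut ↥S.data.G1} (hθ : θ ∈ stab (U1 S.data) (V1 S.data)) :
    ∃ c σ, (RA S).NF θ c σ :=
  exists_orbit_NF S.data condA (φA S) (fun t => ((RA S).X t).2) (fun t => ((RA S).Y t).2)
    (cardA S) (θ := θ) (fun _ hg => Xo_fixed' S hθ condA.mem hg) (fun _ hg => Yo_fixed S hθ condA.mem hg)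

/-- Two automorphisms with the same scalars and field map agree. -/
theorem ext_stab {θ θ' : MulAut ↥S.data.G1} (hθ : θ ∈ stab (U1 S.data) (V1 S.data))
    (hθ' : θ' ∈ stab (U1 S.data) (V1 S.data)) {c : Kˣ} {σ : RingAut K} (h : (RA S).NF θ c σ)
    (h' : (RA S).NF θ' c σ) {b : Kˣ} {v v' : K} (hb : θ (W S 1 0) = W S b v)
    (hb' : θ' (W S 1 0) = W S b v') : θ = θ' := by
  refine (inv_mul_eq_one.1 (eq_one S hm (mul_mem (inv_mem hθ') hθ) (fun s => ?_) ?_)).symm
  · simp only [MulAut.mul_apply, MulAut.inv_def, MulEquiv.symm_apply_eq, Units.val_one, one_mul, inv_one,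
      RingAut.one_apply]
    exact ⟨(h s).1.trans (h' s).1.symm, (h s).2.trans (h' s).2.symm⟩
  · obtain ⟨a, w, hw⟩ := (mem_XoB S).1 (Xo_fixed' S (inv_mem hθ') b2_mem_Os
      ((mem_XoB S).2 ⟨0, v + v', rfl⟩ : W S 0 (v + v') ∈ Xo S.data ωB))
    have h0 : (0 : K) ^ 2 ^ m = 0 := zero_pow (by positivity)
    have ha : a = 0 := by
      have e := congrArg (⇑(θ'⁻¹ : MulAut ↥S.data.G1)) (W_mul S 0 (v + v') 0 (v + v'))
      rw [add_zero, h0, zero_mul, add_zero, ← two_mul (v + v'), S.h2, zero_mul, W_zero, map_one, map_mul, hw,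
        W_mul, ← W_zero S] at e
      have e2 := (W_inj S e).2
      rw [← two_mul w, S.h2, zero_mul, zero_add] at e2
      exact (mul_eq_zero.1 e2).elim eq_zero_of_pow_eq_zero id
    refine ⟨w, ?_⟩
    rw [MulAut.mul_apply, hb, show W S (b : K) v = θ' (W S 1 0) * W S 0 (v + v') by
      rw [hb', W_mul, add_zero, mul_zero, add_zero,
        show v' + (v + v') = v by linear_combination v' * S.h2], map_mul, hw, ha,
      MulAut.inv_def, MulEquiv.symm_apply_apply, W_mul]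
    simp

/-! ### Field automorphisms -/

omit hm in
theorem gmap_pair (σ : RingAut K) (L : List ℕ) (s : K) :
    gmap σ.toRingHom ((factsF4.sys K).prodOver L (cP m s)) = (factsF4.sys K).prodOver L (cP m (σ s)) := by
  refine hom_prodOver factsF4 _ _ _ _ fun r _ => ?_
  rw [factsF4.gmap_xg]
  congr 1
  simp only [cP]
  split_ifs <;> simp

omit hm in
theorem gmap_mem (σ : RingAut K) : ∀ g ∈ S.data.G1, gmap σ.toRingHom g ∈ S.data.G1 := by
  intro g hg
  refine map_closure_mem (gmap σ.toRingHom) (fun x hx => ?_) hg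
  rcases gens_cases S hx with ⟨L, s, hL, rfl⟩ | ⟨a, v, rfl | rfl⟩
  · rw [gmap_pair]
    exact S.pair_mem (by rcases hL with rfl | rfl <;> simp) _
  · have e : gmap σ.toRingHom (S.w4F 27 25 28 30 a v) = S.w4F 27 25 28 30 (σ a) (σ v) := by
      simp [Lie.F4.Setup.w4F, Facts.w4, factsF4.gmap_xg]
    rw [e]; exact S.b2_mem (Or.inl ⟨rfl, rfl, rfl, rfl⟩) _ _
  · have e : gmap σ.toRingHom (S.w4F 20 22 19 17 a v) = S.w4F 20 22 19 17 (σ a) (σ v) := by
      simp [Lie.F4.Setup.w4F, Facts.w4, factsF4.gmap_xg]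
    rw [e]; exact S.b2_mem (Or.inr ⟨rfl, rfl, rfl, rfl⟩) _ _

/-- A field automorphism of the group. -/
noncomputable def fld (σ : RingAut K) : MulAut ↥S.data.G1 :=
  autOf (gmap σ.toRingHom) (gmap_injective _) (gmap_mem S σ)

omit hm in
theorem fld_X (σ : RingAut K) (s : K) : fld S σ ((RA S).X s) = (RA S).X (σ s) := by
  apply Subtype.ext
  show gmap σ.toRingHom ((RA S).X s : GL chevF4.Idx K) = _
  rw [(coe_RA S s).1, (coe_RA S _).1, gmap_pair]

omit hm in
theorem fld_mem (σ : RingAut K) : fld S σ ∈ stab (U1 S.data) (V1 S.data) :=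
  hom_std S.data _ _ _ fun r _ t => ⟨_, factsF4.gmap_xg σ.toRingHom r t⟩

include S in
/-- The order of the outer automorphism group. -/
theorem card_out (h : Fintype.card K = 2 ^ (2 * m + 1)) :
    Nat.card (Cfsg.Out ↥(twistedF4 K (2 ^ m))) = 2 * m + 1 := by
  classical
  haveI := Lie.F4.charP_two h
  haveI : Fact (Nat.Prime 2) := ⟨Nat.prime_two⟩
  have hc : Subgroup.center ↥S.data.G1 = ⊥ := center_eq_bot (S.simple hm)
  have e : Nat.card (Cfsg.Out ↥(twistedF4 K (2 ^ m))) *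
      Nat.card ↥(chevF4.diagonalSubgroup K ⊓ twistedF4 K (2 ^ m)) = Nat.card (stab (U1 S.data) (V1 S.data)) :=
    card_out_twisted S.data (two_le S) hc
  let F : (Kˣ × Kˣ) × RingAut K → stab (U1 S.data) (V1 S.data) := fun p =>
    ⟨MulAut.conj (tz S p.1.1 p.1.2) * fld S p.2,
      mul_mem ((conj_mem_stab S.data (two_le S)).2 ((mem_H1_iff S).2 ⟨_, _, rfl⟩)) (fld_mem S _)⟩
  have hF : Function.Injective F := by
    rintro ⟨⟨t, u⟩, σ⟩ ⟨⟨t', u'⟩, σ'⟩ hh
    have hh' : MulAut.conj (tz S t u) * fld S σ = MulAut.conj (tz S t' u') * fld S σ' := congrArg Subtype.val hh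
    have hs : ∀ s, (lam t u : K) * σ s = (lam t' u' : K) * σ' s := fun s => by
      have := congrArg (fun θ : MulAut ↥S.data.G1 => θ ((RA S).X s)) hh'
      simp only [MulAut.mul_apply, fld_X, MulAut.conj_apply, tz_conj_X] at this
      exact (RA S).X_inj this
    have hl : (lam t u : K) = lam t' u' := by simpa using hs 1
    obtain rfl : σ = σ' := RingEquiv.ext fun s => mul_left_cancel₀ (lam t u).ne_zero (by
      have := hs s
      rwa [← hl] at this)
    have hcj : MulAut.conj (tz S t u) = MulAut.conj (tz S t' u') := mul_right_cancel hh'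
    have hmem : (tz S t' u')⁻¹ * tz S t u ∈ Subgroup.center ↥S.data.G1 := by
      rw [Subgroup.mem_center_iff]
      intro g
      have := congrArg (fun θ : MulAut ↥S.data.G1 => θ g) hcj
      simp only [MulAut.conj_apply] at this
      calc g * ((tz S t' u')⁻¹ * tz S t u) =
            (tz S t' u')⁻¹ * (tz S t' u' * g * (tz S t' u')⁻¹) * tz S t u := by group
        _ = _ := by rw [← this]; group
    rw [hc, Subgroup.mem_bot, inv_mul_eq_one] at hmem
    obtain ⟨rfl, rfl⟩ := tz_inj S hmem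
    rfl
  haveI : Finite (RingAut K) := Finite.of_injective _ DFunLike.coe_injective
  choose c σ hcσ using fun θ : stab (U1 S.data) (V1 S.data) => NF_exists S θ.2
  choose b v hbv using fun θ : stab (U1 S.data) (V1 S.data) => scalar_exists S θ.2
  let G : stab (U1 S.data) (V1 S.data) → (Kˣ × Kˣ) × RingAut K := fun θ => ((c θ, b θ), σ θ)
  have hG : Function.Injective G := fun θ θ' he => by
    obtain ⟨hcb, hσ⟩ := Prod.ext_iff.1 he
    obtain ⟨h1, h2⟩ := Prod.ext_iff.1 hcb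
    have h3 := hcσ θ'
    have h4 := hbv θ'
    simp only [G] at h1 h2 hσ
    rw [← h1, ← hσ] at h3
    rw [← h2] at h4
    exact Subtype.ext (ext_stab S hm θ.2 θ'.2 (hcσ θ) h3 (hbv θ) h4)
  have hle := le_antisymm (Nat.card_le_card_of_injective G hG) (Nat.card_le_card_of_injective F hF)
  rw [hle, Nat.card_prod, Nat.card_prod, Nat.card_units, S.hK, S.card_H,
    ChevAut.card_ringAut (p := 2) h, ← pow_two, mul_comm] at e
  have h2 : 1 < 2 ^ (2 * m + 1) := Nat.one_lt_pow (by omega) (by norm_num)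
  exact Nat.eq_of_mul_eq_mul_left (pow_pos (by omega) 2) e

end Cfsg.Agent.Small.TwistAut.F4
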