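import Cfsg.Agent.Lib.Small.TwistAut.Orbit
import Cfsg.Agent.Lib.Small.ChevAut.Structure
import Cfsg.Agent.Lib.Lie.TwistG2P

/-!
The order of the outer automorphism group of the twisted groups of type ²G₂: an automorphism fixing the
two maximal unipotent subgroups is a torus element times a field automorphism.
-/

set_option autoImplicit false
set_option synthInstance.maxHeartbeats 400000
set_option maxHeartbeats 1600000
set_option maxRecDepth 4000
set_option linter.style.haveILetI false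

namespace Cfsg.Agent.Small.TwistAut.G2

open Cfsg Cfsg.Lie Cfsg.Agent.Lie Cfsg.Agent.Lie.Twist Matrix
open scoped MatrixGroups
open Cfsg.Agent.Lie.G2 (Os Setup posRel negRel)
open Cfsg.Agent.Lie.G2.Setup (N3)

variable {K : Type*} [Field K] [Fintype K] {m : ℕ} (S : Setup K m)

/-- A positive unipotent element. -/
noncomputable def P (t u v : K) : ↥S.data.G1 := ⟨N3 (posRel S.h3) m t u v, S.pos_mem t u v⟩

/-- A negative unipotent element. -/
noncomputable def Q (t u v : K) : ↥S.data.G1 := ⟨N3 (negRel S.h3) m t u v, S.neg_mem t u v⟩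

/-- A torus element. -/
noncomputable def tz : Kˣ →* ↥S.data.G1 :=
  MonoidHom.mk' (fun z => ⟨torus chevG2 K (S.crd z), S.torus_mem z⟩) fun z w => Subtype.ext (by
    show torus chevG2 K (S.crd (z * w)) = torus chevG2 K (S.crd z) * torus chevG2 K (S.crd w)
    rw [S.crd_mul, map_mul])

theorem tz_inj : Function.Injective (tz S) := fun z w h =>
  congrFun (factsG2.torus_injective (F := K) kerCertG2 (congrArg Subtype.val h)) 1

theorem P_inj {t u v t' u' v' : K} (h : P S t u v = P S t' u' v') : t = t' ∧ u = u' ∧ v = v' :=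
  S.N3_inj (congrArg Subtype.val h)

theorem P_mul (t u v t' u' v' : K) : P S t u v * P S t' u' v' =
    P S (t + t') (u + u' - t' ^ (3 * 3 ^ m) * t)
      (v + v' - t' * u - t' ^ (3 * 3 ^ m) * t * t + t' ^ (3 * 3 ^ m) * t * t') := by
  refine Subtype.ext ((S.N3_mul t u v t' u' v').trans ?_)
  rw [← pow_mul, mul_comm (3 ^ m) 3]
  rfl

theorem P_zero : P S 0 0 0 = 1 := Subtype.ext S.N3_zero

theorem tz_conj (z : Kˣ) (t u v : K) : tz S z * P S t u v * (tz S z)⁻¹ =
    P S ((z : K) ^ 2 * ((z : K) ^ (3 * 3 ^ m))⁻¹ * t) ((z : K) ^ (3 * 3 ^ m) * (z : K)⁻¹ * u) ((z : K) * v) := by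
  refine Subtype.ext ((S.torus_conj_N3 z t u v).trans ?_)
  rw [zpow_ofNat]
  rfl

theorem posU : (factsG2.tsys K).US [6, 7, 8, 9, 10, 11] = chevG2.posUnipotent K := by
  rw [← factsG2.tsys_U]; rfl

theorem mem_U1_iff {g : ↥S.data.G1} : g ∈ U1 S.data ↔ ∃ t u v, g = P S t u v := by
  refine ⟨fun hg => ?_, ?_⟩
  · obtain ⟨t, u, v, h⟩ := S.fix_pos (x := (g : GL chevG2.Idx K)) (by rw [posU]; exact hg) (S.le_fix g.2)
    exact ⟨t, u, v, Subtype.ext h⟩
  · rintro ⟨t, u, v, rfl⟩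
    rw [mem_U1, ← posU]
    exact S.N3_mem_US t u v

theorem mem_H1_iff {g : ↥S.data.G1} : g ∈ H1 S.data ↔ ∃ z, g = tz S z := by
  refine ⟨fun hg => ?_, ?_⟩
  · obtain ⟨z, hz⟩ := S.exists_crd (h := (g : GL chevG2.Idx K)) hg (S.le_fix g.2)
    exact ⟨z, Subtype.ext hz⟩
  · rintro ⟨z, rfl⟩
    show torus chevG2 K (S.crd z) ∈ chevG2.diagonalSubgroup K
    rw [factsG2.diagonalSubgroup_eq]
    exact ⟨_, rfl⟩

theorem Q_mem (t u v : K) : Q S t u v ∈ V1 S.data := by
  have h : ∀ i : Fin 6, ∀ z : K, factsG2.xg (Lie.G2.negR i) z ∈ chevG2.negUnipotent K := fun i z =>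
    factsG2.x_mem_negUnipotent (by revert i; decide +kernel) z
  exact mul_mem (mul_mem (mul_mem (mul_mem (mul_mem (h 0 _) (h 1 _)) (h 2 _)) (h 3 _)) (h 4 _)) (h 5 _)

variable (hm : 1 ≤ m)

include hm

theorem bounds : 1 ≤ 3 ^ m ∧ 3 * 3 ^ m + 2 < 3 ^ (2 * m + 1) - 1 := by
  have he : 3 ≤ 3 ^ m := (pow_one 3).symm.le.trans (Nat.pow_le_pow_right (by norm_num) hm)
  refine ⟨by omega, ?_⟩
  rw [show 2 * m + 1 = 1 + (m + m) by omega, pow_add, pow_add, pow_one]
  have : 3 * (3 * 3 ^ m) ≤ 3 * (3 ^ m * 3 ^ m) := by gcongr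
  omega

theorem two_le : 2 ≤ S.data.q := by
  obtain ⟨h1, h2⟩ := bounds hm
  show 2 ≤ 3 ^ (2 * m + 1)
  omega

include S in
theorem exists_moved : ∃ x : K, x ^ (3 * 3 ^ m) ≠ x := by
  obtain ⟨h1, h2⟩ := bounds hm
  obtain ⟨z, hz⟩ := IsCyclic.exists_ofOrder_eq_natCard (α := Kˣ)
  rw [Nat.card_units, S.hK] at hz
  refine ⟨z, fun h => pow_ne_one_of_lt_orderOf (n := 3 * 3 ^ m - 1) (x := z) (by omega) (by omega) ?_⟩
  refine mul_right_cancel (b := z) ?_
  rw [← pow_succ, Nat.sub_add_cancel (by omega), one_mul]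
  exact Units.ext (by rw [Units.val_pow_eq_pow_val]; exact h)

omit hm in
include S in
theorem pow_s_s (x : K) : (x ^ (3 * 3 ^ m)) ^ (3 * 3 ^ m) = x ^ 3 := by
  rw [← pow_mul, show 3 * 3 ^ m * (3 * 3 ^ m) = 3 * 3 ^ m * 3 ^ m * 3 by ring, pow_mul, S.pow_full]

omit hm in
include S in
theorem odd_s : Odd (3 * 3 ^ m) := (Nat.odd_iff.2 (by decide)).mul S.odd_e

omit hm in
include S in
theorem two_ne : (2 : K) ≠ 0 := fun h => one_ne_zero (by linear_combination S.h3 - h : (1 : K) = 0)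

theorem central_iff {t u v : K} :
    (∀ g ∈ U1 S.data, g * P S t u v = P S t u v * g) ↔ t = 0 ∧ u = 0 := by
  have h0 : (0 : K) ^ (3 * 3 ^ m) = 0 := zero_pow (by positivity)
  constructor
  · intro h
    have h1 := fun t' => P_inj S ((P_mul S t' 0 0 t u v).symm.trans
      ((h _ ((mem_U1_iff S).2 ⟨t', 0, 0, rfl⟩)).trans (P_mul S t u v t' 0 0)))
    have ht : t = 0 := by
      by_contra ht
      obtain ⟨x, hx⟩ := exists_moved S hm
      have e1 : t ^ (3 * 3 ^ m) = t := by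
        have := (h1 1).2.1
        rw [one_pow] at this
        linear_combination -this
      have e2 := (h1 x).2.1
      rw [e1] at e2
      refine hx (mul_right_cancel₀ ht ?_)
      linear_combination e2
    subst ht
    refine ⟨rfl, ?_⟩
    have := (h1 1).2.2
    rw [h0] at this
    linear_combination this
  · rintro ⟨rfl, rfl⟩ g hg
    obtain ⟨a, b, c, rfl⟩ := (mem_U1_iff S).1 hg
    rw [P_mul, P_mul, h0]
    congr 1 <;> ring

theorem torus_fixed {θ : MulAut ↥S.data.G1} (hθ : θ ∈ stab (U1 S.data) (V1 S.data)) {g : ↥S.data.G1}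
    (hg : g ∈ H1 S.data) : θ g ∈ H1 S.data := by
  have h := mul_mem (mul_mem hθ ((conj_mem_stab S.data (two_le S hm)).2 hg)) (inv_mem hθ)
  rw [← conj_mem_stab S.data (two_le S hm)]
  convert h using 1
  ext x
  simp

theorem centre_fixed {θ : MulAut ↥S.data.G1} (hθ : θ ∈ stab (U1 S.data) (V1 S.data)) (v : K) :
    ∃ w, θ (P S 0 0 v) = P S 0 0 w := by
  obtain ⟨a, b, c, h⟩ := (mem_U1_iff S).1 ((hθ.1 _).2 ((mem_U1_iff S).2 ⟨0, 0, v, rfl⟩))
  have hc : ∀ g ∈ U1 S.data, g * P S a b c = P S a b c * g := fun g hg => by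
    have hg' : θ.symm g ∈ U1 S.data := (hθ.1 _).1 (by rwa [θ.apply_symm_apply])
    have e := congrArg θ ((central_iff S hm).2 ⟨rfl, rfl⟩ (θ.symm g) hg' : θ.symm g * P S 0 0 v = _)
    rwa [map_mul, map_mul, h, θ.apply_symm_apply] at e
  obtain ⟨rfl, rfl⟩ := (central_iff S hm).1 hc
  exact ⟨c, h⟩

omit hm in
theorem gens_cases {g : GL chevG2.Idx K}
    (hg : g ∈ {g : GL chevG2.Idx K | ∃ w ∈ g2Words K (3 ^ m),
      (g : Matrix chevG2.Idx chevG2.Idx K) = chevG2.wordMat K w}) :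
    ∃ t u v : K, g = N3 (posRel S.h3) m t u v ∨ g = N3 (negRel S.h3) m t u v := by
  obtain ⟨w, hw, hgw⟩ := hg
  rw [show g = factsG2.wg w from Units.ext (by rw [hgw, factsG2.coe_wg])]
  obtain ⟨t, u, v, rfl | rfl⟩ := hw
  · exact ⟨t, u, v, Or.inl (S.wg_U t u v)⟩
  · exact ⟨t, u, v, Or.inr (S.wg_V t u v)⟩

omit hm in
theorem gmap_N3 (σ : RingAut K) (t u v : K) :
    gmap σ.toRingHom (N3 (posRel S.h3) m t u v) = N3 (posRel S.h3) m (σ t) (σ u) (σ v) ∧
    gmap σ.toRingHom (N3 (negRel S.h3) m t u v) = N3 (negRel S.h3) m (σ t) (σ u) (σ v) := by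
  constructor <;> simp [N3, Lie.G2Rel.N, posRel, negRel, factsG2.gmap_xg]

omit hm in
theorem gmap_mem (σ : RingAut K) : ∀ g ∈ S.data.G1, gmap σ.toRingHom g ∈ S.data.G1 := by
  intro g hg
  refine map_closure_mem (gmap σ.toRingHom) (fun x hx => ?_) hg
  obtain ⟨t, u, v, rfl | rfl⟩ := gens_cases S hx
  · rw [(gmap_N3 S σ t u v).1]; exact S.pos_mem _ _ _
  · rw [(gmap_N3 S σ t u v).2]; exact S.neg_mem _ _ _

/-- A field automorphism of the group. -/
noncomputable def fld (σ : RingAut K) : MulAut ↥S.data.G1 :=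
  autOf (gmap σ.toRingHom) (gmap_injective _) (gmap_mem S σ)

omit hm in
theorem fld_P (σ : RingAut K) (t u v : K) : fld S σ (P S t u v) = P S (σ t) (σ u) (σ v) :=
  Subtype.ext (gmap_N3 S σ t u v).1

omit hm in
theorem fld_mem (σ : RingAut K) : fld S σ ∈ stab (U1 S.data) (V1 S.data) :=
  hom_std S.data _ _ _ fun r _ t => ⟨_, factsG2.gmap_xg σ.toRingHom r t⟩

omit hm in
/-- A torus element times a field automorphism. -/
noncomputable def std (z : Kˣ) (σ : RingAut K) : MulAut ↥S.data.G1 := MulAut.conj (tz S z) * fld S σ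

omit hm in
theorem std_Z (z : Kˣ) (σ : RingAut K) (v : K) : std S z σ (P S 0 0 v) = P S 0 0 ((z : K) * σ v) := by
  show tz S z * fld S σ (P S 0 0 v) * (tz S z)⁻¹ = _
  rw [fld_P, map_zero, tz_conj, mul_zero, mul_zero]

theorem std_mem (z : Kˣ) (σ : RingAut K) : std S z σ ∈ stab (U1 S.data) (V1 S.data) :=
  mul_mem ((conj_mem_stab S.data (two_le S hm)).2 ((mem_H1_iff S).2 ⟨z, rfl⟩)) (fld_mem S σ)

/-- An automorphism fixing the centre of U pointwise fixes the torus pointwise. -/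
theorem torus_id {θ : MulAut ↥S.data.G1} (hθ : θ ∈ stab (U1 S.data) (V1 S.data))
    (hZ : ∀ v, θ (P S 0 0 v) = P S 0 0 v) (z : Kˣ) : θ (tz S z) = tz S z := by
  obtain ⟨w, hw⟩ := (mem_H1_iff S).1 (torus_fixed S hm hθ ((mem_H1_iff S).2 ⟨z, rfl⟩))
  have e := congrArg θ (tz_conj S z 0 0 1)
  simp only [mul_zero, mul_one, map_mul, map_inv, hZ, hw] at e
  simp only [tz_conj, mul_zero, mul_one] at e
  rw [hw, Units.ext (P_inj S e).2.2]

/-- An automorphism fixing the centre of U pointwise fixes U pointwise. -/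
theorem U_id {θ : MulAut ↥S.data.G1} (hθ : θ ∈ stab (U1 S.data) (V1 S.data))
    (hZ : ∀ v, θ (P S 0 0 v) = P S 0 0 v) (t u v : K) : θ (P S t u v) = P S t u v := by
  set s := 3 * 3 ^ m with hs
  have hs0 : s ≠ 0 := by positivity
  have h0 : (0 : K) ^ s = 0 := zero_pow hs0
  have hT := torus_id S hm hθ hZ
  choose g α β hg using fun t => (mem_U1_iff S).1 ((hθ.1 _).2 ((mem_U1_iff S).2 ⟨t, (0 : K), (0 : K), rfl⟩))
  choose k b γ hk using fun u => (mem_U1_iff S).1 ((hθ.1 _).2 ((mem_U1_iff S).2 ⟨(0 : K), u, (0 : K), rfl⟩))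
  have eqt : ∀ (z : Kˣ) (t : K), g ((z : K) ^ 2 * ((z : K) ^ s)⁻¹ * t) = (z : K) ^ 2 * ((z : K) ^ s)⁻¹ * g t ∧
      α ((z : K) ^ 2 * ((z : K) ^ s)⁻¹ * t) = (z : K) ^ s * (z : K)⁻¹ * α t ∧
      β ((z : K) ^ 2 * ((z : K) ^ s)⁻¹ * t) = (z : K) * β t := fun z t => by
    have e := congrArg θ (tz_conj S z t 0 0)
    simp only [mul_zero, map_mul, map_inv, hg, hT] at e
    rw [tz_conj] at e
    obtain ⟨e1, e2, e3⟩ := P_inj S e
    exact ⟨e1.symm, e2.symm, e3.symm⟩
  have equ : ∀ (z : Kˣ) (u : K), k ((z : K) ^ s * (z : K)⁻¹ * u) = (z : K) ^ 2 * ((z : K) ^ s)⁻¹ * k u ∧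
      γ ((z : K) ^ s * (z : K)⁻¹ * u) = (z : K) * γ u := fun z u => by
    have e := congrArg θ (tz_conj S z 0 u 0)
    simp only [mul_zero, map_mul, map_inv, hk, hT] at e
    rw [tz_conj] at e
    obtain ⟨e1, -, e3⟩ := P_inj S e
    exact ⟨e1.symm, e3.symm⟩
  have hk0 : ∀ u, k u = 0 ∧ γ u = 0 := fun u => by
    obtain ⟨e1, e3⟩ := equ (-1) u
    simp only [Units.val_neg, Units.val_one, (odd_s S).neg_one_pow, hs, neg_one_sq, inv_neg, inv_one,
      mul_neg, mul_one, neg_neg, one_mul, neg_mul] at e1 e3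
    exact ⟨(mul_eq_zero.1 (by linear_combination e1 : (2 : K) * k u = 0)).resolve_left (two_ne S),
      (mul_eq_zero.1 (by linear_combination e3 : (2 : K) * γ u = 0)).resolve_left (two_ne S)⟩
  have hg0 : g 0 = 0 ∧ α 0 = 0 ∧ β 0 = 0 := by
    have h := hg 0
    rw [P_zero, map_one, ← P_zero S] at h
    obtain ⟨e1, e2, e3⟩ := P_inj S h
    exact ⟨e1.symm, e2.symm, e3.symm⟩
  have form : ∀ t, g t = g 1 * t ∧ α t = α 1 * (t ^ s * t) ∧ β t = β 1 * (t ^ s * t * t) := fun t => by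
    by_cases ht : t = 0
    · subst ht; simp [hg0]
    set w := Units.mk0 t ht
    have hp : ((w ^ (s + 2) : Kˣ) : K) = t ^ s * t * t := by
      rw [Units.val_pow_eq_pow_val, Units.val_mk0, pow_add]; ring
    have hL : ((w ^ (s + 2) : Kˣ) : K) ^ 2 * (((w ^ (s + 2) : Kˣ) : K) ^ s)⁻¹ = t := by
      rw [mul_inv_eq_iff_eq_mul₀ (by simp), hp, mul_pow, mul_pow, mul_pow, mul_pow, pow_s_s S]
      ring
    have hM : ((w ^ (s + 2) : Kˣ) : K) ^ s * ((w ^ (s + 2) : Kˣ) : K)⁻¹ = t ^ s * t := by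
      rw [mul_inv_eq_iff_eq_mul₀ (by simp), hp, mul_pow, mul_pow, pow_s_s S]
      ring
    obtain ⟨e1, e2, e3⟩ := eqt (w ^ (s + 2)) 1
    rw [mul_one, hL] at e1 e2 e3
    rw [hM] at e2
    rw [hp] at e3
    exact ⟨e1.trans (mul_comm _ _), e2.trans (mul_comm _ _), e3.trans (mul_comm _ _)⟩
  have img : ∀ t u v, θ (P S t u v) = P S (g t) (α t + b u) (β t + v) := fun t u v => by
    have hd : P S t u v = P S t 0 0 * P S 0 u 0 * P S 0 0 v := by
      simp [P_mul, ← hs, h0]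
    rw [hd, map_mul, map_mul, hg, hk, (hk0 u).1, (hk0 u).2, hZ, P_mul, P_mul]
    simp [← hs, h0]
  have ha : g 1 ≠ 0 := fun h => by
    have hinj : ∀ t, g t = 0 := fun t => by rw [(form t).1, h, zero_mul]
    obtain ⟨x, y, z, hx⟩ := (mem_U1_iff S).1 ((hθ.1 (θ.symm (P S 1 0 0))).1
      (by rw [θ.apply_symm_apply]; exact (mem_U1_iff S).2 ⟨_, _, _, rfl⟩))
    have hy := congrArg θ hx
    rw [θ.apply_symm_apply, img, hinj] at hy
    exact one_ne_zero (P_inj S hy).1
  have hb : ∀ u, b u = (g 1)⁻¹ * u := fun u => by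
    have e := congrArg θ (P_mul S 0 u 0 1 0 0)
    simp only [map_mul, img, ← hs, h0, mul_zero, add_zero, zero_add, hg0.1, hg0.2.1, hg0.2.2] at e
    simp only [P_mul, ← hs, h0, mul_zero, add_zero, zero_add] at e
    rw [eq_comm, inv_mul_eq_iff_eq_mul₀ ha]
    linear_combination (P_inj S e).2.2
  have key : ∀ t t' : K,
      α (t + t') + (g 1)⁻¹ * (-(t' ^ s * t)) = α t + α t' - (g t') ^ s * g t ∧
      β (t + t') + (-(t' ^ s * t * t) + t' ^ s * t * t') =
        β t + β t' - g t' * α t - (g t') ^ s * g t * g t + (g t') ^ s * g t * g t' := fun t t' => by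
    have e := congrArg θ (P_mul S t 0 0 t' 0 0)
    simp only [map_mul, img, ← hs, hb] at e
    simp only [P_mul, ← hs] at e
    obtain ⟨-, e2, e3⟩ := P_inj S e
    exact ⟨by linear_combination -e2, by linear_combination -e3⟩
  set a := g 1 with ha'
  have hgt : ∀ t, g t = a * t := fun t => (form t).1
  have hα : ∀ t : K, α 1 * (t ^ s + t) = (a⁻¹ - a ^ s * a) * t := fun t => by
    have e := (key t 1).1
    rw [(form (t + 1)).2.1, (form t).2.1, hgt 1, hgt t, mul_one, one_pow] at e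
    rw [hs, S.add_pow_e, ← hs, one_pow] at e
    linear_combination e
  have hα1 : α 1 = 0 ∧ a⁻¹ - a ^ s * a = 0 := by
    have e := hα 1
    rw [one_pow] at e
    obtain ⟨x, hx⟩ := exists_moved S hm
    have h1 : α 1 * (x ^ s - x) = 0 := by linear_combination hα x - x * e
    have h2 : α 1 = 0 := (mul_eq_zero.1 h1).resolve_right (sub_ne_zero.2 hx)
    exact ⟨h2, by linear_combination -e + 2 * h2⟩
  have ha1 : a = 1 := by
    have h1 : a ^ s * a * a = 1 := by
      rw [← sub_eq_zero.1 hα1.2, inv_mul_cancel₀ ha]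
    have h2 : a ^ 3 * a ^ s * a ^ s = 1 := by
      have := congrArg (· ^ s) h1
      simp only [mul_pow, one_pow, pow_s_s S, hs] at this ⊢
      exact this
    refine mul_left_cancel₀ (pow_ne_zero 3 ha) (mul_right_cancel₀ (pow_ne_zero s ha)
      (mul_right_cancel₀ (pow_ne_zero s ha) ?_))
    linear_combination (a ^ s * a * a + 1) * h1 - h2
  have hβ1 : β 1 = 0 := by
    obtain ⟨x, hx⟩ := exists_moved S hm
    have hαz : ∀ t, α t = 0 := fun t => by rw [(form t).2.1, hα1.1, zero_mul]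
    have hadd : ∀ t t', β (t + t') = β t + β t' := fun t t' => by
      have e := (key t t').2
      rw [hgt, hgt, ha1, one_mul, one_mul, hαz] at e
      linear_combination e
    have e1 := hadd x 1
    have e2 := hadd x (-1)
    rw [(form (x + 1)).2.2, (form x).2.2] at e1
    rw [(form (x + -1)).2.2, (form x).2.2, (form (-1)).2.2] at e2
    rw [hs, S.add_pow_e, ← hs, one_pow] at e1
    rw [hs, S.add_pow_e, (odd_s S).neg_one_pow, ← hs] at e2
    have h1 : β 1 * (x ^ s - x) = 0 := by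
      linear_combination -e1 - e2 + (β 1 * (x + x ^ s)) * S.h3
    exact (mul_eq_zero.1 h1).resolve_right (sub_ne_zero.2 hx)
  rw [img, hb, hgt, ha1, (form t).2.1, (form t).2.2, hα1.1, hβ1]
  simp

/-- Conjugates of positive elements by the longest element lie in big cells. -/
theorem exists_cell {n : ↥S.data.G1} {a : GL chevG2.Idx K} (ha : a ∈ (factsG2.tsys K).H)
    (hn : (n : GL chevG2.Idx K) = a * (factsG2.tsys K).nW (ChevAut.w0 factsG2)) {x : ↥S.data.G1}
    (hx : x ∈ U1 S.data) (hx1 : x ≠ 1) :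
    ∃ u ∈ U1 S.data, ∃ b : ↥S.data.G1, (b : GL chevG2.Idx K) ∈ (factsG2.tsys K).B ∧
      n * x * n⁻¹ = u * n * b := by
  obtain ⟨ω₀, hω₀⟩ := List.exists_mem_of_ne_nil Os (by decide +kernel)
  have hone : ∀ ω ∈ Os, ω = ω₀ := fun ω hω => by
    simp only [Os, List.map_cons, List.map_nil, List.mem_singleton] at hω hω₀
    rw [hω, hω₀]
  have hcase : ∀ w, S.T.PiFix w → w = 1 ∨ w = S.T.wO ω₀ := fun w hw => by
    refine S.T.piFix_induction S.hOs (P := fun w => w = 1 ∨ w = S.T.wO ω₀) (Or.inl rfl) ?_ w hw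
    rintro ω hω z - - - - (rfl | rfl)
    · exact Or.inr (by rw [one_mul, hone ω hω])
    · exact Or.inl (by rw [hone ω hω]; exact S.T.wO_sq S.hOs hω₀)
  obtain ⟨a0, -, n0, -, hw0⟩ := exists_n0 S.data
  have hw0' : ChevAut.w0 factsG2 = S.T.wO ω₀ := (hcase _ hw0).resolve_left fun h1 => by
    have h := ChevAut.w0_neg factsG2 (r := ⟨0, by decide +kernel⟩)
      (by simp [Facts.refSys]; decide +kernel)
    rw [h1, one_smul] at h
    revert h
    simp [Facts.refSys]
    decide +kernel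
  obtain ⟨w, hw, u, hu, huG, c, hc, hcn, v, hv, hvG, he⟩ := S.data.decomp (n * x * n⁻¹).2
  rcases hcase w hw with rfl | hwe
  · exfalso
    have hB : ((n * x * n⁻¹ : ↥S.data.G1) : GL chevG2.Idx K) ∈ (factsG2.tsys K).B := by
      rw [he]
      exact mul_mem (mul_mem ((factsG2.tsys K).U_le_B hu)
        ((factsG2.tsys K).H_le_B (mul_mem hc (factsG2.tsys K).nW_one))) (S.data.inv_B hv)
    exact hx1 (conj_eq_one_iff.1 (Subtype.ext (factsG2.B_inter_V hB ((longest_conj S.data ha hn).1.2 hx))))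
  · rw [← hw0'] at hwe
    subst hwe
    set uu : ↥S.data.G1 := ⟨u, huG⟩
    refine ⟨uu, by rw [mem_U1, ← factsG2.tsys_U]; exact hu, n⁻¹ * uu⁻¹ * (n * x * n⁻¹), ?_, by group⟩
    rw [Subgroup.coe_mul, Subgroup.coe_mul, Subgroup.coe_inv, Subgroup.coe_inv, he, hn,
      show (uu : GL chevG2.Idx K) = u from rfl]
    set W := (factsG2.tsys K).nW (ChevAut.w0 factsG2)
    rw [show (a * W)⁻¹ * u⁻¹ * (u * (c * W) * v) = (W⁻¹ * (a⁻¹ * c) * W) * v by group]
    refine mul_mem ((factsG2.tsys K).H_le_B ?_) (S.data.inv_B hv)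
    have h := (factsG2.tsys K).H_normal_in_N (inv_mem ((factsG2.tsys K).nW_mem_N (ChevAut.w0 factsG2)))
      (mul_mem (inv_mem ha) hc)
    rwa [inv_inv] at h

theorem eq_one_of_ne {z : Kˣ} {t u v : K} (hne : ¬(t = 0 ∧ v = 0))
    (h : tz S z * P S t u v * (tz S z)⁻¹ = P S t u v) : z = 1 := by
  rw [tz_conj] at h
  obtain ⟨h1, -, h3⟩ := P_inj S h
  refine Units.ext ?_
  by_cases hv : v = 0
  · have ht : t ≠ 0 := fun ht => hne ⟨ht, hv⟩
    have e := (mul_inv_eq_iff_eq_mul₀ (pow_ne_zero _ z.ne_zero)).1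
      (mul_right_cancel₀ ht (h1.trans (one_mul t).symm))
    rw [one_mul] at e
    have e2 := congrArg (· ^ (3 * 3 ^ m)) e
    simp only [pow_s_s S] at e2
    rw [← pow_mul, mul_comm 2, pow_mul, ← e, ← pow_mul] at e2
    refine mul_left_cancel₀ (pow_ne_zero 3 z.ne_zero) ?_
    rw [Units.val_one, mul_one]
    linear_combination e2
  · exact mul_right_cancel₀ hv (h3.trans (one_mul v).symm)

/-- An automorphism fixing the centre of U pointwise is trivial. -/
theorem eq_one {θ : MulAut ↥S.data.G1} (hθ : θ ∈ stab (U1 S.data) (V1 S.data))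
    (hZ : ∀ v, θ (P S 0 0 v) = P S 0 0 v) : θ = 1 := by
  classical
  have hU : ∀ g ∈ U1 S.data, θ g = g := fun g hg => by
    obtain ⟨t, u, v, rfl⟩ := (mem_U1_iff S).1 hg
    exact U_id S hm hθ hZ t u v
  have hH : ∀ g ∈ H1 S.data, θ g = g := fun g hg => by
    obtain ⟨z, rfl⟩ := (mem_H1_iff S).1 hg
    exact torus_id S hm hθ hZ z
  have hB : ∀ g : ↥S.data.G1, (g : GL chevG2.Idx K) ∈ (factsG2.tsys K).B → θ g = g := fun g hg => by
    obtain ⟨u, hu, huG, c, hc, hcG, he⟩ := S.data.mem_B1 hg g.2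
    obtain rfl : g = (⟨u, huG⟩ : ↥S.data.G1) * ⟨c, hcG⟩ := Subtype.ext he
    rw [map_mul, hU _ (by rw [mem_U1, ← factsG2.tsys_U]; exact hu),
      hH _ (show c ∈ chevG2.diagonalSubgroup K by rw [← factsG2.tsys_H]; exact hc)]
  obtain ⟨a, ha, n, hn, -⟩ := exists_n0 S.data
  have hsw := fun g => longest_conj S.data ha hn (g := g)
  have hk : n⁻¹ * θ n ∈ H1 S.data := by
    rw [← conj_mem_stab S.data (two_le S hm)]
    refine stab_of_le _ _ (fun g hg => ?_) fun g hg => ?_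
    · rw [MulAut.conj_apply, ← (hsw _).1, show n * (n⁻¹ * θ n * g * (n⁻¹ * θ n)⁻¹) * n⁻¹ =
        θ n * g * (θ n)⁻¹ by group, ← θ.apply_symm_apply g, ← map_inv, ← map_mul, ← map_mul, hθ.2, (hsw _).1]
      exact (hθ.1 _).1 (by rwa [θ.apply_symm_apply])
    · rw [MulAut.conj_apply, ← (hsw _).2, show n * (n⁻¹ * θ n * g * (n⁻¹ * θ n)⁻¹) * n⁻¹ =
        θ n * g * (θ n)⁻¹ by group, ← θ.apply_symm_apply g, ← map_inv, ← map_mul, ← map_mul, hθ.1, (hsw _).2]
      exact (hθ.2 _).1 (by rwa [θ.apply_symm_apply])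
  set h := n⁻¹ * θ n with hh
  have hθn : θ n = n * h := by rw [hh, mul_inv_cancel_left]
  obtain ⟨z, hz⟩ : ∃ z, n * h * n⁻¹ = tz S z := by
    refine (mem_H1_iff S).1 ?_
    have hhH : (h : GL chevG2.Idx K) ∈ (factsG2.tsys K).H := by rw [factsG2.tsys_H]; exact hk
    show ((n * h * n⁻¹ : ↥S.data.G1) : GL chevG2.Idx K) ∈ chevG2.diagonalSubgroup K
    rw [← factsG2.tsys_H, Subgroup.coe_mul, Subgroup.coe_mul, Subgroup.coe_inv, hn]
    set W := (factsG2.tsys K).nW (ChevAut.w0 factsG2)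
    rw [show a * W * (h : GL chevG2.Idx K) * (a * W)⁻¹ = a * (W * h * W⁻¹) * a⁻¹ by group]
    exact mul_mem (mul_mem ha ((factsG2.tsys K).H_normal_in_N ((factsG2.tsys K).nW_mem_N _) hhH)) (inv_mem ha)
  have hzH : (tz S z : GL chevG2.Idx K) ∈ (factsG2.tsys K).B := (factsG2.tsys K).H_le_B (by
    rw [factsG2.tsys_H]; exact (mem_H1_iff S).2 ⟨z, rfl⟩)
  have hhB : (h : GL chevG2.Idx K) ∈ (factsG2.tsys K).B := (factsG2.tsys K).H_le_B (by
    rw [factsG2.tsys_H]; exact hk)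
  have hcells : ∀ x ∈ U1 S.data, x ≠ 1 → ∃ u ∈ U1 S.data, ∃ b : ↥S.data.G1,
      (b : GL chevG2.Idx K) ∈ (factsG2.tsys K).B ∧ n * x * n⁻¹ = u * n * b ∧
      tz S z * u * (tz S z)⁻¹ = u := fun x hx hx1 => by
    obtain ⟨u, hu, b, hb, he⟩ := exists_cell S hm ha hn hx hx1
    refine ⟨u, hu, b, hb, he, ?_⟩
    have e := congrArg θ he
    rw [map_mul, map_mul, map_mul, map_mul, map_inv, hθn, hU x hx, hU u hu, hB b hb] at e
    have e' : tz S z * (u * n * b) * (tz S z)⁻¹ = u * (n * h) * b := by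
      rw [← e, ← he, ← hz]; group
    have hd' : n⁻¹ * (u⁻¹ * (tz S z * u * (tz S z)⁻¹)) * n = h * b * tz S z * b⁻¹ * h⁻¹ := by
      rw [show n⁻¹ * (u⁻¹ * (tz S z * u * (tz S z)⁻¹)) * n = n⁻¹ * (u⁻¹ * (tz S z * (u * n * b) * (tz S z)⁻¹)) *
        tz S z * b⁻¹ * n⁻¹ * (tz S z)⁻¹ * n by group, e', ← hz]
      group
    have hV : n⁻¹ * (u⁻¹ * (tz S z * u * (tz S z)⁻¹)) * n ∈ V1 S.data := by
      rw [← (hsw _).2, show n * (n⁻¹ * (u⁻¹ * (tz S z * u * (tz S z)⁻¹)) * n) * n⁻¹ =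
        u⁻¹ * (tz S z * u * (tz S z)⁻¹) by group]
      exact mul_mem (inv_mem hu) ((U1_conj S.data hzH rfl u).2 hu)
    have h1 : n⁻¹ * (u⁻¹ * (tz S z * u * (tz S z)⁻¹)) * n = 1 := by
      refine Subtype.ext (factsG2.B_inter_V ?_ hV)
      rw [hd']
      simp only [Subgroup.coe_mul, Subgroup.coe_inv]
      exact mul_mem (mul_mem (mul_mem (mul_mem hhB hb) hzH) (inv_mem hb)) (inv_mem hhB)
    exact (inv_mul_eq_one.1 ((conj_eq_one_iff (a := n⁻¹)).1 (by rw [inv_inv]; exact h1))).symm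
  have hz1 : z = 1 := by
    by_contra hz1
    have hsmall : ∀ x : U1 S.data, ∀ hx : x.1 ≠ 1, ∃ y : K, ∃ b : ↥S.data.G1,
        (b : GL chevG2.Idx K) ∈ (factsG2.tsys K).B ∧ n * x.1 * n⁻¹ = P S 0 y 0 * n * b := fun x hx => by
      obtain ⟨u, hu, b, hb, he, hc⟩ := hcells x.1 x.2 hx
      obtain ⟨t, y, v, rfl⟩ := (mem_U1_iff S).1 hu
      obtain ⟨rfl, rfl⟩ : t = 0 ∧ v = 0 := by
        by_contra hne
        exact hz1 (eq_one_of_ne S hm hne hc)
      exact ⟨y, b, hb, he⟩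
    choose y b hb he using hsmall
    let f : U1 S.data → Option K := fun x => if hx : x.1 = 1 then none else some (y x hx)
    have hf : Function.Injective f := by
      intro x x' e
      by_cases hx : x.1 = 1 <;> by_cases hx' : x'.1 = 1
      · exact Subtype.ext (hx.trans hx'.symm)
      · simp only [f] at e
        rw [dif_pos hx, dif_neg hx'] at e
        cases e
      · simp only [f] at e
        rw [dif_neg hx, dif_pos hx'] at e
        cases e
      · simp only [f] at e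
        rw [dif_neg hx, dif_neg hx', Option.some.injEq] at e
        have h1 : n * (x.1⁻¹ * x'.1) * n⁻¹ = (b x hx)⁻¹ * b x' hx' := by
          rw [show n * (x.1⁻¹ * x'.1) * n⁻¹ = (n * x.1 * n⁻¹)⁻¹ * (n * x'.1 * n⁻¹) by group, he x hx,
            he x' hx', e]
          group
        have h2 : x.1⁻¹ * x'.1 = 1 := by
          refine (conj_eq_one_iff (a := n)).1 (Subtype.ext (factsG2.B_inter_V ?_
            ((hsw _).1.2 (mul_mem (inv_mem x.2) x'.2))))
          rw [h1]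
          simp only [Subgroup.coe_mul, Subgroup.coe_inv]
          exact mul_mem (inv_mem (hb x hx)) (hb x' hx')
        exact Subtype.ext (inv_mul_eq_one.1 h2)
    have hle := Nat.card_le_card_of_injective f hf
    rw [Finite.card_option, S.hK, U1, card_subgroupOf] at hle
    have hcard : Nat.card ↥(chevG2.posUnipotent K ⊓ S.data.G1) = (3 ^ (2 * m + 1)) ^ 3 := S.card_U
    rw [hcard] at hle
    have h3 : 3 ≤ 3 ^ (2 * m + 1) := Nat.le_self_pow (by omega) 3
    have h9 : 9 * 3 ^ (2 * m + 1) ≤ (3 ^ (2 * m + 1)) ^ 3 := by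
      calc 9 * 3 ^ (2 * m + 1) ≤ (3 ^ (2 * m + 1)) ^ 2 * 3 ^ (2 * m + 1) :=
            Nat.mul_le_mul_right _ (by simpa using Nat.pow_le_pow_left h3 2)
        _ = _ := by ring
    omega
  have hh1 : h = 1 := by
    rw [hz1, map_one, conj_eq_one_iff] at hz
    exact hz
  have hfix : θ n = n := by rw [hθn, hh1, mul_one]
  have hV : ∀ g ∈ V1 S.data, θ g = g := fun g hg => by
    have hy : n⁻¹ * g * n ∈ U1 S.data := by
      rw [← (hsw _).1]; convert hg using 1; group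
    calc θ g = θ (n * (n⁻¹ * g * n) * n⁻¹) := by congr 1; group
      _ = g := by rw [map_mul, map_mul, map_inv, hfix, hU _ hy]; group
  refine aut_ext fun g hg => ?_
  obtain ⟨t, u, v, rfl | rfl⟩ := gens_cases S hg
  · exact hU (P S t u v) ((mem_U1_iff S).2 ⟨t, u, v, rfl⟩)
  · exact hV (Q S t u v) (Q_mem S t u v)

/-- Every automorphism fixing U and V is a torus element times a field automorphism. -/
theorem exists_eq_std {θ : MulAut ↥S.data.G1} (hθ : θ ∈ stab (U1 S.data) (V1 S.data)) :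
    ∃ z σ, θ = std S z σ := by
  choose f hf using centre_fixed S hm hθ
  choose χ hχ using fun z => (mem_H1_iff S).1 (torus_fixed S hm hθ ((mem_H1_iff S).2 ⟨z, rfl⟩))
  have hmul : ∀ (z : Kˣ) v, f ((z : K) * v) = (χ z : K) * f v := fun z v => by
    have e := congrArg θ (tz_conj S z 0 0 v)
    simp only [mul_zero, map_mul, map_inv, hχ, hf] at e
    simp only [tz_conj, mul_zero] at e
    exact (P_inj S e).2.2.symm
  have hadd : ∀ v w, f (v + w) = f v + f w := fun v w => by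
    have e := congrArg θ (P_mul S 0 0 v 0 0 w)
    simp only [map_mul, hf, mul_zero, zero_mul, sub_zero, add_zero] at e
    simp only [P_mul, mul_zero, zero_mul, sub_zero, add_zero] at e
    exact (P_inj S e).2.2.symm
  have hinj : Function.Injective f := fun v w e =>
    (P_inj S (θ.injective (a₁ := P S 0 0 v) (a₂ := P S 0 0 w) (by rw [hf, hf, e]))).2.2
  have hf0 : f 0 = 0 := by
    have := hadd 0 0
    rw [add_zero] at this
    exact left_eq_add.1 this
  have hc : f 1 ≠ 0 := fun h => one_ne_zero (hinj (h.trans hf0.symm))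
  let φ : K →+* K :=
    { toFun := fun x => f x / f 1
      map_one' := div_self hc
      map_mul' := fun x y => by
        by_cases hx : x = 0
        · subst hx; simp [hf0]
        · have h1 : f x = (χ (Units.mk0 x hx) : K) * f 1 := by simpa using hmul (Units.mk0 x hx) 1
          have h2 : f (x * y) = (χ (Units.mk0 x hx) : K) * f y := by simpa using hmul (Units.mk0 x hx) y
          rw [h1, h2]
          field_simp
      map_zero' := by simp [hf0]
      map_add' := fun x y => by rw [hadd, add_div] }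
  let σ : RingAut K := RingEquiv.ofBijective φ (Finite.injective_iff_bijective.1 φ.injective)
  refine ⟨Units.mk0 (f 1) hc, σ, (inv_mul_eq_one.1 (eq_one S hm
    (mul_mem (inv_mem (std_mem S hm (Units.mk0 (f 1) hc) σ)) hθ) fun v => ?_)).symm⟩
  show (std S _ σ).symm (θ (P S 0 0 v)) = _
  rw [MulEquiv.symm_apply_eq, std_Z, hf]
  show _ = P S 0 0 (f 1 * (f v / f 1))
  rw [mul_div_cancel₀ _ hc]

include S in
/-- The order of the outer automorphism group. -/
theorem card_out (h : Fintype.card K = 3 ^ (2 * m + 1)) :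
    Nat.card (Cfsg.Out ↥(twistedG2 K (3 ^ m))) = 2 * m + 1 := by
  classical
  haveI := Lie.G2.charP_three h
  haveI : Fact (Nat.Prime 3) := ⟨Nat.prime_three⟩
  have e : Nat.card (Cfsg.Out ↥(twistedG2 K (3 ^ m))) *
      Nat.card ↥(chevG2.diagonalSubgroup K ⊓ twistedG2 K (3 ^ m)) = Nat.card (stab (U1 S.data) (V1 S.data)) :=
    card_out_twisted S.data (two_le S hm) (center_eq_bot (S.simple hm))
  let F : Kˣ × RingAut K → stab (U1 S.data) (V1 S.data) := fun p => ⟨std S p.1 p.2, std_mem S hm _ _⟩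
  have hF : Function.Bijective F := by
    refine ⟨fun ⟨z, σ⟩ ⟨z', σ'⟩ hh => ?_, fun ⟨θ, hθ⟩ => ?_⟩
    · have hv : ∀ v, (z : K) * σ v = (z' : K) * σ' v := fun v => by
        have := congrArg (fun θ : MulAut ↥S.data.G1 => θ (P S 0 0 v)) (congrArg Subtype.val hh)
        simp only [F, std_Z] at this
        exact (P_inj S this).2.2
      obtain rfl : z = z' := Units.ext (by simpa using hv 1)
      exact Prod.ext rfl (RingEquiv.ext fun v => mul_left_cancel₀ z.ne_zero (hv v))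
    · obtain ⟨z, σ, rfl⟩ := exists_eq_std S hm hθ
      exact ⟨(z, σ), rfl⟩
  rw [← Nat.card_eq_of_bijective F hF, Nat.card_prod, Nat.card_units, S.hK, S.card_H,
    ChevAut.card_ringAut (p := 3) h, mul_comm] at e
  obtain ⟨h1, h2⟩ := bounds hm
  exact Nat.eq_of_mul_eq_mul_left (by omega) e

end Cfsg.Agent.Small.TwistAut.G2
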