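import Cfsg.Agent.Lib.Small.TwistAut.RankOne
import Cfsg.Agent.Lib.Small.ChevAut.Diag
import Cfsg.Agent.Lib.Lie.TwistOrth
import Cfsg.Agent.Lib.Small.TwistAut.Parabolic
import Cfsg.Agent.Lib.Lie.TwistFrob
import Cfsg.Agent.Lib.Lie.TwistComm

/-!
The root groups of an orbit of pairwise orthogonal nodes as a rank one situation over a field, and
automorphisms of a subgroup given by endomorphisms of the ambient group.
-/

set_option autoImplicit false
set_option synthInstance.maxHeartbeats 400000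
set_option linter.style.haveILetI false

namespace Cfsg.Agent.Small.TwistAut

open Cfsg Cfsg.Lie Cfsg.Agent.Lie Cfsg.Agent.Lie.Twist Matrix
open scoped MatrixGroups

theorem list_conj_prod {α Γ : Type*} [Group Γ] (f g g' : α → Γ) : ∀ L : List α, L.Nodup →
    (∀ r ∈ L, f r * g r * (f r)⁻¹ = g' r) →
    (∀ r ∈ L, ∀ s ∈ L, r ≠ s → Commute (f r) (g s) ∧ Commute (f r) (g' s)) →
    (L.map f).prod * (L.map g).prod * (L.map f).prod⁻¹ = (L.map g').prod := by
  intro L
  induction L with
  | nil => simp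
  | cons a L ih =>
    intro hnd h1 h2
    obtain ⟨ha, hnd'⟩ := List.nodup_cons.1 hnd
    have hL := ih hnd' (fun r hr => h1 r (List.mem_cons_of_mem _ hr))
      (fun r hr s hs => h2 r (List.mem_cons_of_mem _ hr) s (List.mem_cons_of_mem _ hs))
    have c1 : (L.map f).prod * g a * (L.map f).prod⁻¹ = g a := by
      have hc : Commute (g a) (L.map f).prod := Commute.list_prod_right _ _ fun x hx => by
        obtain ⟨s, hs, rfl⟩ := List.mem_map.1 hx
        exact (h2 s (List.mem_cons_of_mem _ hs) a List.mem_cons_self fun e => ha (e ▸ hs)).1.symm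
      rw [← hc.eq, mul_inv_cancel_right]
    have c2 : f a * (L.map g').prod * (f a)⁻¹ = (L.map g').prod := by
      have hc : Commute (f a) (L.map g').prod := Commute.list_prod_right _ _ fun x hx => by
        obtain ⟨s, hs, rfl⟩ := List.mem_map.1 hx
        exact (h2 a List.mem_cons_self s (List.mem_cons_of_mem _ hs) fun e => ha (e ▸ hs)).2
      rw [hc.eq, mul_inv_cancel_right]
    simp only [List.map_cons, List.prod_cons]
    rw [show f a * (L.map f).prod * (g a * (L.map g).prod) * (f a * (L.map f).prod)⁻¹ =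
        f a * (((L.map f).prod * g a * (L.map f).prod⁻¹) * ((L.map f).prod * (L.map g).prod * (L.map f).prod⁻¹)) *
          (f a)⁻¹ by group, c1, hL,
      show f a * (g a * (L.map g').prod) * (f a)⁻¹ = (f a * g a * (f a)⁻¹) * (f a * (L.map g').prod * (f a)⁻¹) by
        group, c2, h1 a List.mem_cons_self]

variable {D : ChevalleyDatum} {F : Type*} [Field F]

theorem xg_ng_commute (hF : Facts D) {L : List ℕ} (hL : okComm2 D L = true) {r s : ℕ} (hr : r ∈ L) (hs : s ∈ L)
    (hne : r ≠ s) {x : ℕ} (hx : x = r ∨ x = D.neg r) (t b : F) : Commute (hF.xg x t) (hF.ng s b) := by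
  rw [hF.ng_eq]
  exact ((hF.xg_commute2 hL hr hs hne hx (Or.inl rfl) _ _).mul_right
    (hF.xg_commute2 hL hr hs hne hx (Or.inr rfl) _ _)).mul_right
      (hF.xg_commute2 hL hr hs hne hx (Or.inl rfl) _ _)

/-- A product of torus elements of nodes acting on a root element. -/
theorem hgs_conj (hF : Facts D) (ω : List (Fin D.rank)) (c : Fin D.rank → Fˣ) {s : ℕ} (hs : s < D.nroots) (t : F) :
    (ω.map fun i => hF.hg (D.simple i.val) (c i : F)).prod * hF.xg s t *
      (ω.map fun i => hF.hg (D.simple i.val) (c i : F)).prod⁻¹ =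
      hF.xg s (((ω.map fun i => c i ^ D.cartan i.val s).prod : Fˣ) * t) := by
  induction ω with
  | nil => simp
  | cons i ω ih =>
    simp only [List.map_cons, List.prod_cons]
    rw [show ∀ a b x : GL D.Idx F, a * b * x * (a * b)⁻¹ = a * (b * x * b⁻¹) * a⁻¹ from fun a b x => by group,
      ih, ChevAut.hg_conj hF i (c i) hs, Units.val_mul, mul_assoc]

/-- An automorphism of a finite subgroup from an injective endomorphism mapping it into itself. -/
noncomputable def autOf {Γ : Type*} [Group Γ] {H : Subgroup Γ} [Finite H] (f : Γ →* Γ)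
    (hf : Function.Injective f) (h : ∀ g ∈ H, f g ∈ H) : MulAut H :=
  MulEquiv.ofBijective
    (MonoidHom.mk' (fun g : H => (⟨f g, h g g.2⟩ : H)) fun a b => Subtype.ext (map_mul f a.1 b.1))
    (Finite.injective_iff_bijective.1 fun a b e => Subtype.ext (hf (congrArg Subtype.val e)))

theorem coe_autOf {Γ : Type*} [Group Γ] {H : Subgroup Γ} [Finite H] (f : Γ →* Γ)
    (hf : Function.Injective f) (h : ∀ g ∈ H, f g ∈ H) (g : H) : ((autOf f hf h g : H) : Γ) = f g := rfl

theorem map_closure_mem {Γ : Type*} [Group Γ] {S : Set Γ} (f : Γ →* Γ) (h : ∀ g ∈ S, f g ∈ Subgroup.closure S)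
    {g : Γ} (hg : g ∈ Subgroup.closure S) : f g ∈ Subgroup.closure S :=
  (Subgroup.closure_le ((Subgroup.closure S).comap f)).2 h hg

theorem aut_ext {Γ : Type*} [Group Γ] {S : Set Γ} {θ θ' : MulAut (Subgroup.closure S)}
    (h : ∀ g (hg : g ∈ S), θ ⟨g, Subgroup.subset_closure hg⟩ = θ' ⟨g, Subgroup.subset_closure hg⟩) : θ = θ' := by
  refine MulEquiv.ext fun ⟨g, hg⟩ => ?_
  induction hg using Subgroup.closure_induction with
  | mem x hx => exact h x hx
  | one => exact (map_one θ).trans (map_one θ').symm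
  | mul a b ha hb iha ihb =>
    show θ (⟨a, ha⟩ * ⟨b, hb⟩) = θ' (⟨a, ha⟩ * ⟨b, hb⟩)
    rw [map_mul, map_mul, iha, ihb]
  | inv a ha iha =>
    show θ (⟨a, ha⟩⁻¹) = θ' (⟨a, ha⟩⁻¹)
    rw [map_inv, map_inv, iha]

variable [Finite F] {hF : Facts D} {T : Twist hF F} {Os : List (List (Fin D.rank))} (X : TwData T Os)
  {k : Type*} [Field k]

/-- Conditions making an orbit a rank one situation. -/
structure OrbitCond (ω : List (Fin D.rank)) : Prop where
  mem : ω ∈ Os
  nd : (simples D ω).Nodup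
  comm : okComm2 D (simples D ω) = true
  comm1 : okComm D (simples D ω) = true
  perm : (simples D ω).Perm (orbL D (ω.map Fin.val))

include X in
theorem OrbitCond.X_mem {ω : List (Fin D.rank)} (C : OrbitCond (Os := Os) ω) (c : ℕ → F) :
    (hF.sys F).prodOver (simples D ω) c ∈ (hF.tsys F).US (orbL D (ω.map Fin.val)) :=
  CommSys.US_mono _ (fun _ hr => C.perm.mem_iff.1 hr) (CommSys.prodOver_mem _ _ _)

/-- The root groups of an orbit. -/
noncomputable def orbR1 {ω : List (Fin D.rank)} (C : OrbitCond (Os := Os) ω) (φ : ℕ → k →+* F) :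
    R1 (GL D.Idx F) k where
  X t := (hF.sys F).prodOver (simples D ω) fun r => φ r t
  Y t := ((simples D ω).map fun r => hF.xg (D.neg r) (φ r t)).prod
  n t := ((simples D ω).map fun r => hF.ng r (φ r t)).prod
  hn t := by
    rw [hF.prod_ng C.nd C.comm]
    simp only [map_neg, map_inv₀]
  X_add a b := by
    show (hF.sys F).prodOver (simples D ω) (fun r => φ r (a + b)) = _ * _
    rw [← hF.prodOver_add C.comm1 C.nd]
    simp only [map_add]
  X_inj a b h := by
    change (hF.sys F).prodOver (simples D ω) (fun r => φ r a) =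
      (hF.sys F).prodOver (simples D ω) (fun r => φ r b) at h
    obtain ⟨i, hi⟩ := exists_node X C.mem
    have hcl : ClosedList D (orbL D (ω.map Fin.val)) := by
      rw [← T.invList_wO X.hOs C.mem]; exact TorusSys.closed_invList _
    rw [hF.prodOver_perm C.comm1 C.perm, hF.prodOver_perm C.comm1 C.perm] at h
    exact (φ (D.simple i.val)).injective (hF.prodOver_inj hcl h _ (simple_mem_orbL X C.mem hi))
  conjN t ht u := by
    simp only [CommSys.prodOver, Facts.sys_x]
    refine list_conj_prod _ _ _ _ C.nd (fun r hr => ?_) fun r hr s hs hne =>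
      ⟨(xg_ng_commute hF C.comm hs hr (Ne.symm hne) (Or.inl rfl) _ _).symm,
        (xg_ng_commute hF C.comm hs hr (Ne.symm hne) (Or.inr rfl) _ _).symm⟩
    obtain ⟨i, -, rfl⟩ := List.mem_map.1 hr
    rw [ChevAut.ng_conj_pos hF i ((map_ne_zero (φ (D.simple i.val))).2 ht), map_neg, map_div₀, map_pow]
  unique a a' b b' c c' hc hc' h := by
    set nn := ((simples D ω).map fun r => hF.ng r (1 : F)).prod with hnn
    obtain ⟨e, he, hee⟩ := (hF.tsys F).nw_eq (ω := ω) (w := T.wO ω) rfl
    have hne : nn = e * (hF.tsys F).nW (T.wO ω) := by rw [hnn, ← hee, ← Twist.nw_orbit (hF := hF)]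
    have hH : ∀ z : k, z ≠ 0 → ((simples D ω).map fun r => hF.hg r (φ r z)).prod ∈ (hF.tsys F).H := fun z hz =>
      Subgroup.list_prod_mem _ fun g hg => by
        obtain ⟨r, hr, rfl⟩ := List.mem_map.1 hg
        rw [← hF.tsys_h]
        obtain ⟨i, -, rfl⟩ := List.mem_map.1 hr
        exact (hF.tsys F).h_mem (hF.simple_lt i i.isLt) ((map_ne_zero (φ _)).2 hz)
    have hsplit : ∀ z : k, ((simples D ω).map fun r => hF.ng r (φ r z)).prod =
        ((simples D ω).map fun r => hF.hg r (φ r z)).prod * nn := fun z => by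
      rw [hnn, ← list_prod_map_mul (fun r => hF.hg r (φ r z)) (fun r => hF.ng r (1 : F))]
      · exact congrArg List.prod (List.map_congr_left fun r _ => ChevAut.ng_eq_hg hF r _)
      · refine List.Pairwise.imp_of_mem (fun hr hs hne => ?_) C.nd
        rw [hF.hg_eq]
        exact (hF.ng_commute C.comm hr hs hne _ _).mul_right (hF.ng_commute C.comm hr hs hne _ _)
    have hU : ∀ z : k, (hF.sys F).prodOver (simples D ω) (fun r => φ r z) ∈ (hF.tsys F).U := fun z => by
      have := orbL_mem_U (C.X_mem X fun r => φ r z)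
      rwa [← hF.tsys_U] at this
    have hv : ∀ z : k, (hF.sys F).prodOver (simples D ω) (fun r => φ r z) ∈
        (hF.tsys F).US (TorusSys.invList (T.wO ω)) := fun z => by
      rw [T.invList_wO X.hOs C.mem]; exact C.X_mem X _
    obtain ⟨-, h1, h2⟩ := hF.bruhat_unique (w := T.wO ω) (v := T.wO ω)
      (mul_mem (mul_mem ((hF.tsys F).U_le_B (hU a)) ((hF.tsys F).H_le_B (hH c hc))) ((hF.tsys F).H_le_B he))
      (mul_mem (mul_mem ((hF.tsys F).U_le_B (hU a')) ((hF.tsys F).H_le_B (hH c' hc'))) ((hF.tsys F).H_le_B he))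
      (hv b) (hv b') (by
        rw [hsplit, hsplit, hne] at h
        simp only [mul_assoc] at h ⊢
        exact h)
    have h3 := mul_right_cancel h1
    have h4 : ((hF.sys F).prodOver (simples D ω) fun r => φ r a')⁻¹ *
        (hF.sys F).prodOver (simples D ω) (fun r => φ r a) = 1 := by
      refine hF.U_inter_H (mul_mem (inv_mem (hU a')) (hU a)) ?_
      rw [show ((hF.sys F).prodOver (simples D ω) fun r => φ r a')⁻¹ *
          (hF.sys F).prodOver (simples D ω) (fun r => φ r a) =
          ((simples D ω).map fun r => hF.hg r (φ r c')).prod * ((simples D ω).map fun r => hF.hg r (φ r c)).prod⁻¹ by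
        rw [eq_mul_inv_iff_mul_eq, mul_assoc, h3, inv_mul_cancel_left]]
      exact mul_mem (hH c' hc') (inv_mem (hH c hc))
    have hinj : ∀ x y : k, (hF.sys F).prodOver (simples D ω) (fun r => φ r x) =
        (hF.sys F).prodOver (simples D ω) (fun r => φ r y) → x = y := fun x y e => by
      obtain ⟨i, hi⟩ := exists_node X C.mem
      have hcl : ClosedList D (orbL D (ω.map Fin.val)) := by
        rw [← T.invList_wO X.hOs C.mem]; exact TorusSys.closed_invList _
      rw [hF.prodOver_perm C.comm1 C.perm, hF.prodOver_perm C.comm1 C.perm] at e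
      exact (φ (D.simple i.val)).injective (hF.prodOver_inj hcl e _ (simple_mem_orbL X C.mem hi))
    have ha : a = a' := hinj _ _ (inv_mul_eq_one.1 h4).symm
    subst ha
    exact ⟨rfl, hinj _ _ h2, by rw [hsplit, hsplit, mul_left_cancel h3]⟩
  sep a b h := by
    have hU := orbL_mem_U (C.X_mem X fun r => φ r a)
    have hV : ((simples D ω).map fun r => hF.xg (D.neg r) (φ r b)).prod ∈ D.negUnipotent F :=
      Subgroup.list_prod_mem _ fun g hg => by
        obtain ⟨r, hr, rfl⟩ := List.mem_map.1 hg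
        obtain ⟨i, -, rfl⟩ := List.mem_map.1 hr
        exact hF.x_mem_negUnipotent (hF.neg_half_lt (hF.simple_lt i i.isLt) (hF.simple_ge i i.isLt)) _
    have h1 : (hF.sys F).prodOver (simples D ω) (fun r => φ r a) = 1 :=
      ChevAut.U_inter_V hF hU (by rw [h]; exact hV)
    obtain ⟨i, hi⟩ := exists_node X C.mem
    have hcl : ClosedList D (orbL D (ω.map Fin.val)) := by
      rw [← T.invList_wO X.hOs C.mem]; exact TorusSys.closed_invList _
    rw [hF.prodOver_perm C.comm1 C.perm] at h1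
    have h2 : (hF.sys F).prodOver (orbL D (ω.map Fin.val)) (fun r => φ r a) =
        (hF.sys F).prodOver (orbL D (ω.map Fin.val)) (fun _ => 0) := by
      rw [h1]
      simp [CommSys.prodOver, Facts.sys_x, hF.xg_zero]
    exact (map_eq_zero _).1 (hF.prodOver_inj hcl h2 _ (simple_mem_orbL X C.mem hi))

/-- The torus element of the rank one situation. -/
theorem orbR1_h {ω : List (Fin D.rank)} (C : OrbitCond (Os := Os) ω) (φ : ℕ → k →+* F) (t : k) :
    (orbR1 X C φ).h t = (ω.map fun i => hF.hg (D.simple i.val) (φ (D.simple i.val) t)).prod := by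
  show ((simples D ω).map fun r => hF.ng r (φ r t)).prod * ((simples D ω).map fun r => hF.ng r (φ r (-1))).prod = _
  simp only [map_neg, map_one]
  rw [← hF.prod_hg C.nd C.comm, simples, List.map_map]
  rfl

variable {ω : List (Fin D.rank)} (C : OrbitCond (Os := Os) ω) (φ : ℕ → k →+* F)

theorem orbR1_X (t : k) : (orbR1 X C φ).X t = (hF.sys F).prodOver (simples D ω) fun r => φ r t := rfl

theorem orbR1_Y (t : k) :
    (orbR1 X C φ).Y t = ((simples D ω).map fun r => hF.xg (D.neg r) (φ r t)).prod := rfl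

theorem orbR1_Y_mem (t : k) : (orbR1 X C φ).Y t ∈ (hF.tsys F).US (Twist.negL D ω) := by
  refine Subgroup.list_prod_mem _ fun g hg => ?_
  obtain ⟨r, hr, rfl⟩ := List.mem_map.1 hg
  rw [← hF.tsys_x]
  exact CommSys.x_mem_US _ (List.mem_map.2 ⟨r, C.perm.mem_iff.1 hr, rfl⟩) _

variable (hX : ∀ t, (orbR1 X C φ).X t ∈ X.G1) (hY : ∀ t, (orbR1 X C φ).Y t ∈ X.G1)
  (hcard : Nat.card k = Nat.card (Xo X ω))

/-- The rank one situation inside the twisted group. -/
noncomputable def orbR1G : R1 ↥X.G1 k := (orbR1 X C φ).sub X.G1 hX hY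

include hcard in
theorem mem_Xo_iff {g : ↥X.G1} : g ∈ Xo X ω ↔ ∃ t, g = (orbR1G X C φ hX hY).X t := by
  refine ⟨fun hg => ?_, ?_⟩
  · let f : k → Xo X ω := fun t => ⟨(orbR1G X C φ hX hY).X t, C.X_mem X _⟩
    have hf : Function.Injective f := fun a b e =>
      (orbR1G X C φ hX hY).X_inj (congrArg Subtype.val e)
    obtain ⟨t, ht⟩ := ((Nat.bijective_iff_injective_and_card f).2 ⟨hf, hcard⟩).2 ⟨g, hg⟩
    exact ⟨t, (congrArg Subtype.val ht).symm⟩
  · rintro ⟨t, rfl⟩
    exact C.X_mem X _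

include hcard in
theorem mem_Yo_iff' {g : ↥X.G1} : g ∈ Yo X ω ↔ ∃ t, g = (orbR1G X C φ hX hY).Y t := by
  refine ⟨fun hg => ?_, ?_⟩
  · let f : k → Yo X ω := fun t => ⟨(orbR1G X C φ hX hY).Y t, orbR1_Y_mem X C φ t⟩
    have hf : Function.Injective f := fun a b e =>
      (orbR1G X C φ hX hY).Y_inj (congrArg Subtype.val e)
    obtain ⟨t, ht⟩ := ((Nat.bijective_iff_injective_and_card f).2
      ⟨hf, hcard.trans (card_Yo X ⟨ω, C.mem⟩).symm⟩).2 ⟨g, hg⟩
    exact ⟨t, (congrArg Subtype.val ht).symm⟩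
  · rintro ⟨t, rfl⟩
    exact orbR1_Y_mem X C φ t

include hcard in
/-- An automorphism fixing the two root groups of an orbit has a normal form on them. -/
theorem exists_orbit_NF [Finite k] {θ : MulAut ↥X.G1} (hXo : ∀ g ∈ Xo X ω, θ g ∈ Xo X ω)
    (hYo : ∀ g ∈ Yo X ω, θ g ∈ Yo X ω) : ∃ c σ, (orbR1G X C φ hX hY).NF θ c σ :=
  (orbR1G X C φ hX hY).exists_NF
    (fun t => (mem_Xo_iff X C φ hX hY hcard).1 (hXo _ ((mem_Xo_iff X C φ hX hY hcard).2 ⟨t, rfl⟩)))
    (fun t => (mem_Yo_iff' X C φ hX hY hcard).1 (hYo _ ((mem_Yo_iff' X C φ hX hY hcard).2 ⟨t, rfl⟩)))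

end Cfsg.Agent.Small.TwistAut

namespace Cfsg.Agent.Small.TwistAut

open Cfsg Cfsg.Lie Cfsg.Agent.Lie Matrix
open scoped MatrixGroups

/-- Roots of unity of order dividing b are powers with exponent a in a cyclic group of order ab. -/
theorem exists_pow_eq {G : Type*} [CommGroup G] [Finite G] [IsCyclic G] {a b : ℕ} (hcard : Nat.card G = a * b)
    {m : G} (hm : m ^ b = 1) : ∃ t : G, t ^ a = m := by
  obtain ⟨g, hg⟩ := IsCyclic.exists_generator (α := G)
  obtain ⟨j, hj⟩ := mem_powers_iff_mem_zpowers.2 (hg m)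
  have hj' : g ^ j = m := hj
  have hb : 0 < b := Nat.pos_of_ne_zero fun h => by simp [h, Nat.card_pos.ne'] at hcard
  have h1 : a * b ∣ j * b := by
    rw [← hcard, ← orderOf_eq_card_of_forall_mem_zpowers hg]
    refine orderOf_dvd_of_pow_eq_one ?_
    rw [pow_mul, hj', hm]
  obtain ⟨c, rfl⟩ := Nat.dvd_of_mul_dvd_mul_right hb h1
  exact ⟨g ^ c, by rw [← pow_mul, mul_comm, hj']⟩

/-- The nonzero elements fixed by the q-th power map. -/
theorem card_fixUnits {K : Type*} [Field K] [Finite K] {q n : ℕ} (hK : Nat.card K = q ^ n) :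
    Nat.card ↥(powMonoidHom (q - 1) : Kˣ →* Kˣ).ker = q - 1 := by
  have hdvd : q - 1 ∣ Nat.card Kˣ := by
    rw [Nat.card_units, hK]
    simpa using Nat.sub_dvd_pow_sub_pow q 1 n
  rw [IsCyclic.card_powMonoidHom_ker Kˣ (q - 1), Nat.gcd_eq_right hdvd]

theorem fixUnits_pow {K : Type*} [Field K] {q : ℕ} (hq : 1 ≤ q) {m : Kˣ} :
    m ∈ (powMonoidHom (q - 1) : Kˣ →* Kˣ).ker ↔ m ^ q = m := by
  rw [MonoidHom.mem_ker, powMonoidHom_apply]
  conv_rhs => rw [show q = q - 1 + 1 by omega, pow_succ, mul_eq_right]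

theorem center_eq_bot {G : Type*} [Group G] (h : IsSimpleGroup G ∧ ¬ IsMulCommutative G) :
    Subgroup.center G = ⊥ := by
  obtain ⟨hs, hn⟩ := h
  refine (hs.eq_bot_or_eq_top_of_normal (Subgroup.center G) inferInstance).resolve_right fun htop => hn ?_
  exact ⟨⟨fun a b => (Subgroup.mem_center_iff.1 (htop.symm ▸ Subgroup.mem_top b) a)⟩⟩

variable {D : ChevalleyDatum} {F : Type*} [Field F]

theorem hom_prodOver (hF : Facts D) (f : GL D.Idx F →* GL D.Idx F) (L : List ℕ) (c c' : ℕ → F)
    (h : ∀ r ∈ L, f (hF.xg r (c r)) = hF.xg r (c' r)) :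
    f ((hF.sys F).prodOver L c) = (hF.sys F).prodOver L c' := by
  simp only [CommSys.prodOver, Facts.sys_x]
  rw [map_list_prod, List.map_map]
  exact congrArg List.prod (List.map_congr_left h)

/-- A root character composed with a field automorphism. -/
noncomputable def dfHom (D : ChevalleyDatum) (χ : ℕ → Fˣ) (σ : RingAut F) : GL D.Idx F →* GL D.Idx F :=
  (MulAut.conj (ChevAut.dMat D χ)).toMonoidHom.comp (gmap σ.toRingHom)

theorem dfHom_injective (χ : ℕ → Fˣ) (σ : RingAut F) : Function.Injective (dfHom D χ σ) := fun a b h =>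
  gmap_injective σ.toRingHom ((MulAut.conj (ChevAut.dMat D χ)).injective h)

theorem dfHom_xg (A : ChevAut.AutData D) (χ : ℕ → Fˣ) (hχ : D.IsRootCharacter χ) (σ : RingAut F) {r : ℕ}
    (hr : r < D.nroots) (t : F) : dfHom D χ σ (A.hF.xg r t) = A.hF.xg r ((χ r : F) * σ t) := by
  show ChevAut.dMat D χ * gmap σ.toRingHom (A.hF.xg r t) * (ChevAut.dMat D χ)⁻¹ = _
  rw [A.hF.gmap_xg]
  exact ChevAut.dMat_conj A χ hχ hr _

/-- Endomorphisms respecting each root subgroup preserve the two unipotent subgroups. -/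
theorem hom_std [Finite F] {hF : Facts D} {T : Twist hF F} {Os : List (List (Fin D.rank))} (X : TwData T Os)
    (f : GL D.Idx F →* GL D.Idx F) (hf : Function.Injective f) (h : ∀ g ∈ X.G1, f g ∈ X.G1)
    (hx : ∀ r, r < D.nroots → ∀ t, ∃ u, f (hF.xg r t) = hF.xg r u) :
    autOf f hf h ∈ stab (U1 X) (V1 X) := by
  have hU : D.posUnipotent F ≤ (D.posUnipotent F).comap f := by
    rw [hF.posUnipotent_eq F]
    refine CommSys.US_le _ fun r hr t => ?_
    obtain ⟨h1, h2⟩ := Facts.mem_posL.1 hr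
    obtain ⟨u, hu⟩ := hx r h2 t
    rw [← hF.posUnipotent_eq F]
    show f (hF.xg r t) ∈ D.posUnipotent F
    rw [hu, ← hF.tsys_U]
    exact (hF.tsys F).x_mem_U h1 h2 u
  have hV : D.negUnipotent F ≤ (D.negUnipotent F).comap f := by
    refine hF.negUnipotent_le fun r hr t => ?_
    obtain ⟨u, hu⟩ := hx r (by omega) t
    show f (hF.xg r t) ∈ D.negUnipotent F
    rw [hu]
    exact hF.x_mem_negUnipotent hr u
  exact stab_of_le _ _ (fun g hg => hU hg) fun g hg => hV hg

/-- The restriction of a field automorphism to the fixed field of a power map. -/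
noncomputable def fixSub {K : Type*} [Field K] (fr : K →+* K) : Subfield K := fr.eqLocusField (RingHom.id K)

theorem mem_fixSub {K : Type*} [Field K] {fr : K →+* K} {q : ℕ} (hfr : ∀ t, fr t = t ^ q) {t : K} :
    t ∈ fixSub fr ↔ t ^ q = t := by
  rw [fixSub, RingHom.mem_eqLocusField, hfr, RingHom.id_apply]

theorem card_fixSub {K : Type*} [Field K] [Finite K] {fr : K →+* K} {q n : ℕ} (hq : 2 ≤ q)
    (hK : Nat.card K = q ^ n) (hfr : ∀ t, fr t = t ^ q) : Nat.card ↥(fixSub fr) = q := by
  rw [← card_pow_eq_self (F := K) hq hK]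
  exact Nat.card_congr (Equiv.subtypeEquivRight fun t => mem_fixSub hfr)

end Cfsg.Agent.Small.TwistAut
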