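import Cfsg.Agent.Lib.Small.ChevAut.NormalForm

/-!
An abstract rank one situation: a pair of root groups parametrised by a field with the usual exchange
relations. An automorphism of the ambient group preserving both is `x(t) ↦ x(c σ t)`, `y(t) ↦ y(c⁻¹ σ t)`.
-/

set_option autoImplicit false

namespace Cfsg.Agent.Small.TwistAut

variable {Γ : Type*} [Group Γ] {k k' : Type*} [Field k] [Field k']

/-- Two root groups with their exchange relations. -/
structure R1 (Γ : Type*) [Group Γ] (k : Type*) [Field k] where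
  X : k → Γ
  Y : k → Γ
  n : k → Γ
  hn : ∀ t, n t = X t * Y (-t⁻¹) * X t
  X_add : ∀ a b, X (a + b) = X a * X b
  X_inj : Function.Injective X
  conjN : ∀ t, t ≠ 0 → ∀ u, n t * X u * (n t)⁻¹ = Y (-(u / t ^ 2))
  unique : ∀ a a' b b' c c', c ≠ 0 → c' ≠ 0 → X a * n c * X b = X a' * n c' * X b' →
    a = a' ∧ b = b' ∧ n c = n c'
  sep : ∀ a b, X a = Y b → a = 0

namespace R1

variable (R : R1 Γ k)

theorem X_zero : R.X 0 = 1 := by
  have h := R.X_add 0 0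
  rw [add_zero] at h
  exact left_eq_mul.1 h

theorem X_neg (a : k) : R.X (-a) = (R.X a)⁻¹ := by
  refine eq_inv_of_mul_eq_one_left ?_
  rw [← R.X_add, neg_add_cancel, R.X_zero]

theorem Y_eq (v : k) : R.Y v = R.n 1 * R.X (-v) * (R.n 1)⁻¹ := by
  rw [R.conjN 1 one_ne_zero]
  simp

theorem Y_add (a b : k) : R.Y (a + b) = R.Y a * R.Y b := by
  rw [R.Y_eq, R.Y_eq a, R.Y_eq b, neg_add, R.X_add]
  group

theorem Y_zero : R.Y 0 = 1 := by rw [R.Y_eq, neg_zero, R.X_zero, mul_one, mul_inv_cancel]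

theorem Y_neg (a : k) : R.Y (-a) = (R.Y a)⁻¹ := by
  refine eq_inv_of_mul_eq_one_left ?_
  rw [← R.Y_add, neg_add_cancel, R.Y_zero]

theorem Y_inj : Function.Injective R.Y := fun a b h => by
  rw [R.Y_eq a, R.Y_eq b, mul_left_inj, mul_right_inj] at h
  exact neg_injective (R.X_inj h)

theorem n_neg (t : k) : R.n (-t) = (R.n t)⁻¹ := by
  rw [R.hn, R.hn t, inv_neg, R.X_neg, R.Y_neg, R.Y_neg]
  group

theorem neg_eq (t : k) : R.Y t = R.X t⁻¹ * R.n (-t⁻¹) * R.X t⁻¹ := by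
  rw [R.hn, inv_neg, inv_inv, neg_neg, R.X_neg]
  group

theorem conjN_Y {t : k} (ht : t ≠ 0) (v : k) : R.n t * R.Y v * (R.n t)⁻¹ = R.X (-(v * t ^ 2)) := by
  have h := R.conjN (-t) (neg_ne_zero.2 ht) (-(v * t ^ 2))
  rw [neg_sq, neg_div, neg_neg, mul_div_cancel_right₀ _ (pow_ne_zero 2 ht), R.n_neg, inv_inv] at h
  rw [← h]
  group

/-- The torus element of t. -/
def h (t : k) : Γ := R.n t * R.n (-1)

theorem hconj {t : k} (ht : t ≠ 0) (u : k) : R.h t * R.X u * (R.h t)⁻¹ = R.X (t ^ 2 * u) := by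
  rw [h, show R.n t * R.n (-1) * R.X u * (R.n t * R.n (-1))⁻¹ =
      R.n t * (R.n (-1) * R.X u * (R.n (-1))⁻¹) * (R.n t)⁻¹ by group,
    R.conjN (-1) (neg_ne_zero.2 one_ne_zero), R.conjN_Y ht]
  congr 1
  ring

theorem sq_eq_of_n_eq {c c' : k} (hc : c ≠ 0) (hc' : c' ≠ 0) (e : R.n c = R.n c') : c ^ 2 = c' ^ 2 := by
  have h1 := R.hconj hc 1
  have h2 := R.hconj hc' 1
  rw [h, e, ← h, h2] at h1
  simpa using (R.X_inj h1).symm

/-- x(a) y(b) x(a) exchanges the two groups only if ab = -1. -/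
theorem exchange {a b v : k} (h : R.X a * R.Y b * R.X a * R.X 1 * (R.X a * R.Y b * R.X a)⁻¹ = R.Y v) :
    a * b = -1 := by
  by_cases hb : b = 0
  · exfalso
    subst hb
    rw [R.Y_zero, mul_one, show R.X a * R.X a * R.X 1 * (R.X a * R.X a)⁻¹ = R.X 1 by
      rw [mul_inv_eq_iff_eq_mul, ← R.X_add, ← R.X_add, ← R.X_add, add_comm]] at h
    exact one_ne_zero (R.sep _ _ h)
  set s := a + b⁻¹ with hs
  have hc : -b⁻¹ ≠ 0 := neg_ne_zero.2 (inv_ne_zero hb)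
  have hw : R.X a * R.Y b * R.X a = R.X s * R.n (-b⁻¹) * R.X s := by
    rw [hs, R.neg_eq b, R.X_add]
    conv_rhs => enter [2]; rw [← R.X_add, add_comm, R.X_add]
    group
  have hcancel : R.X s * R.X 1 * (R.X s)⁻¹ = R.X 1 := by
    rw [mul_inv_eq_iff_eq_mul, ← R.X_add, ← R.X_add, add_comm]
  rw [hw, show R.X s * R.n (-b⁻¹) * R.X s * R.X 1 * (R.X s * R.n (-b⁻¹) * R.X s)⁻¹ =
      R.X s * (R.n (-b⁻¹) * (R.X s * R.X 1 * (R.X s)⁻¹) * (R.n (-b⁻¹))⁻¹) * (R.X s)⁻¹ by group, hcancel,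
    R.conjN _ hc] at h
  set u := -(1 / (-b⁻¹) ^ 2) with hu
  have hu0 : u ≠ 0 := neg_ne_zero.2 (div_ne_zero one_ne_zero (pow_ne_zero _ hc))
  have hv0 : v ≠ 0 := by
    rintro rfl
    rw [R.Y_zero, conj_eq_one_iff, ← R.Y_zero] at h
    exact hu0 (R.Y_inj h)
  rw [R.neg_eq u, R.neg_eq v, ← R.X_neg,
    show R.X s * (R.X u⁻¹ * R.n (-u⁻¹) * R.X u⁻¹) * R.X (-s) =
      (R.X s * R.X u⁻¹) * R.n (-u⁻¹) * (R.X u⁻¹ * R.X (-s)) by group,
    ← R.X_add, ← R.X_add] at h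
  obtain ⟨h1, h2, h3⟩ := R.unique _ _ _ _ _ _ (neg_ne_zero.2 (inv_ne_zero hu0))
    (neg_ne_zero.2 (inv_ne_zero hv0)) h
  have h3' := R.sq_eq_of_n_eq (neg_ne_zero.2 (inv_ne_zero hu0)) (neg_ne_zero.2 (inv_ne_zero hv0)) h3
  have hs0 : s = 0 := by
    by_cases h2' : (2 : k) = 0
    · have huv : u = v := by
        have h4 : (u⁻¹ - v⁻¹) ^ 2 = 0 := by linear_combination h3' - u⁻¹ * v⁻¹ * h2' + v⁻¹ ^ 2 * h2'
        exact inv_injective (sub_eq_zero.1 (pow_eq_zero_iff two_ne_zero |>.1 h4))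
      rw [huv] at h1
      linear_combination h1
    · have h5 : (2 : k) * s = 0 := by linear_combination h1 - h2
      exact (mul_eq_zero.1 h5).resolve_left h2'
  rw [hs] at hs0
  rw [eq_neg_of_add_eq_zero_left hs0, neg_mul, inv_mul_cancel₀ hb]

/-- The normal form of an automorphism. -/
def NF (θ : MulAut Γ) (c : kˣ) (σ : RingAut k) : Prop :=
  ∀ t, θ (R.X t) = R.X ((c : k) * σ t) ∧ θ (R.Y t) = R.Y ((c : k)⁻¹ * σ t)

theorem NF.unique {θ : MulAut Γ} {c c' : kˣ} {σ σ' : RingAut k} (h : R.NF θ c σ) (h' : R.NF θ c' σ') :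
    c = c' ∧ σ = σ' := by
  have hc : c = c' := Units.ext (by simpa using R.X_inj ((h 1).1.symm.trans (h' 1).1))
  subst hc
  exact ⟨rfl, RingEquiv.ext fun t => mul_left_cancel₀ c.ne_zero (R.X_inj ((h t).1.symm.trans (h' t).1))⟩

theorem exists_NF [Finite k] {θ : MulAut Γ} (hX : ∀ t, ∃ u, θ (R.X t) = R.X u)
    (hY : ∀ t, ∃ u, θ (R.Y t) = R.Y u) : ∃ c σ, R.NF θ c σ := by
  choose f hf using hX
  choose g hg using hY
  have hfadd : ∀ a b, f (a + b) = f a + f b := fun a b => R.X_inj (by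
    rw [← hf, R.X_add, map_mul, hf, hf, R.X_add])
  have hfinj : Function.Injective f := fun a b hab => R.X_inj (θ.injective (by rw [hf, hf, hab]))
  have hf0 : f 0 = 0 := by
    have := hfadd 0 0
    rw [add_zero] at this
    exact left_eq_add.1 this
  have hne : ∀ t, t ≠ 0 → f t ≠ 0 := fun t ht h => ht (hfinj (h.trans hf0.symm))
  have hneg : ∀ a, f (-a) = -f a := fun a => by
    rw [eq_neg_iff_add_eq_zero, ← hfadd, neg_add_cancel, hf0]
  have hng : ∀ t, θ (R.n t) = R.X (f t) * R.Y (g (-t⁻¹)) * R.X (f t) := fun t => by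
    rw [R.hn, map_mul, map_mul, hf, hg]
  have hgf : ∀ t, t ≠ 0 → g (-t⁻¹) = -(f t)⁻¹ := by
    intro t ht
    obtain ⟨u, hu⟩ : ∃ u, f u = 1 := (Finite.injective_iff_surjective.1 hfinj) 1
    have e := congrArg θ (R.conjN t ht u)
    rw [map_mul, map_mul, map_inv, hng t, hf, hg, hu] at e
    have h1 := R.exchange e
    rw [← neg_one_mul ((f t)⁻¹), ← h1, mul_right_comm, mul_inv_cancel₀ (hne t ht), one_mul]
  have himg : ∀ t, t ≠ 0 → θ (R.n t) = R.n (f t) := fun t ht => by rw [hng, hgf t ht, R.hn]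
  have hc0 := hne 1 one_ne_zero
  have hg' : ∀ u, g u = f u / f 1 ^ 2 := by
    intro u
    refine R.Y_inj ?_
    rw [← hg, R.Y_eq, map_mul, map_mul, map_inv, himg 1 one_ne_zero, hf, hneg, R.conjN _ hc0,
      neg_div, neg_neg]
  have hsq : ∀ t u, t ≠ 0 → f (t ^ 2 * u) = (f t / f 1) ^ 2 * f u := by
    intro t u ht
    refine R.X_inj ?_
    rw [← hf, ← R.hconj ht, R1.h, map_mul, map_mul, map_inv, map_mul, himg t ht,
      himg (-1) (neg_ne_zero.2 one_ne_zero), hneg, hf,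
      show R.n (f t) * R.n (-f 1) * R.X (f u) * (R.n (f t) * R.n (-f 1))⁻¹ =
        R.n (f t) * (R.n (-f 1) * R.X (f u) * (R.n (-f 1))⁻¹) * (R.n (f t))⁻¹ by group,
      R.conjN _ (neg_ne_zero.2 hc0), R.conjN_Y (hne t ht)]
    congr 1
    field_simp
  obtain ⟨σ, hσ⟩ := ChevAut.ringAut_of_sq (f := fun t => f t / f 1)
    (Finite.injective_iff_bijective.1 fun a b h => hfinj (by simpa [hc0] using h))
    (fun a b => by simp [hfadd, add_div]) (by simp [hc0]) (fun t u => by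
      by_cases ht : t = 0
      · subst ht; simp [hf0]
      · rw [hsq t u ht, mul_div_assoc])
  refine ⟨Units.mk0 (f 1) hc0, σ, fun t => ?_⟩
  rw [hf, hg, hσ, Units.val_mk0, hg']
  constructor <;> congr 1 <;> field_simp

theorem NF.map_n {θ : MulAut Γ} {c : kˣ} {σ : RingAut k} (h : R.NF θ c σ) (t : k) :
    θ (R.n t) = R.n ((c : k) * σ t) := by
  rw [R.hn, map_mul, map_mul, (h _).1, (h _).2, R.hn, mul_inv, map_neg, map_inv₀, mul_neg]

/-- The field maps of two pairs of root groups linked by a torus action. -/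
theorem NF.rel (R' : R1 Γ k') {θ : MulAut Γ} {c : kˣ} {σ : RingAut k} {c' : k'ˣ} {σ' : RingAut k'}
    (h : R.NF θ c σ) (h' : R'.NF θ c' σ') (χ : k → k') (hmul : ∀ a b, χ (a * b) = χ a * χ b)
    (hχ : ∀ t, t ≠ 0 → ∀ u, R.h t * R'.X u * (R.h t)⁻¹ = R'.X (χ t * u)) {t : k} (ht : t ≠ 0) :
    σ' (χ t) = χ (σ t) := by
  have e := congrArg θ (hχ t ht 1)
  rw [R1.h, map_mul, map_mul, map_inv, map_mul, (h'  _).1, (h' _).1, h.map_n, h.map_n, map_neg,
    map_one, mul_neg, mul_one, map_one, mul_one, mul_one, R.n_neg] at e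
  have hχc : χ (c : k) ≠ 0 := fun h0 => by
    have := hχ _ c.ne_zero 1
    rw [h0, zero_mul, R'.X_zero, conj_eq_one_iff, ← R'.X_zero] at this
    exact one_ne_zero (R'.X_inj this)
  have e1 : R.n (c : k) * R.n (-1) * R'.X ((χ (c : k))⁻¹ * c') * (R.n (c : k) * R.n (-1))⁻¹ = R'.X c' := by
    have := hχ _ c.ne_zero ((χ (c : k))⁻¹ * c')
    rwa [mul_inv_cancel_left₀ hχc] at this
  rw [← e1, show R.n ((c : k) * σ t) * (R.n (c : k))⁻¹ * (R.n (c : k) * R.n (-1) *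
      R'.X ((χ (c : k))⁻¹ * c') * (R.n (c : k) * R.n (-1))⁻¹) * (R.n ((c : k) * σ t) * (R.n (c : k))⁻¹)⁻¹ =
      R.h ((c : k) * σ t) * R'.X ((χ (c : k))⁻¹ * c') * (R.h ((c : k) * σ t))⁻¹ by rw [R1.h]; group,
    hχ _ (mul_ne_zero c.ne_zero (by simpa using ht))] at e
  have e2 := R'.X_inj e
  rw [hmul] at e2
  field_simp at e2
  exact e2.symm

/-- The same structure inside a subgroup. -/
def sub (H : Subgroup Γ) (hX : ∀ t, R.X t ∈ H) (hY : ∀ t, R.Y t ∈ H) : R1 ↥H k where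
  X t := ⟨R.X t, hX t⟩
  Y t := ⟨R.Y t, hY t⟩
  n t := ⟨R.n t, by rw [R.hn]; exact mul_mem (mul_mem (hX _) (hY _)) (hX _)⟩
  hn t := Subtype.ext (R.hn t)
  X_add a b := Subtype.ext (R.X_add a b)
  X_inj a b h := R.X_inj (congrArg Subtype.val h)
  conjN t ht u := Subtype.ext (R.conjN t ht u)
  unique a a' b b' c c' hc hc' h := (R.unique a a' b b' c c' hc hc' (congrArg Subtype.val h)).imp_right
    fun h => ⟨h.1, Subtype.ext h.2⟩
  sep a b h := R.sep a b (congrArg Subtype.val h)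

end R1

end Cfsg.Agent.Small.TwistAut
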