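import Cfsg.Agent.Lib.Small.TwistAut.G2
import Mathlib.NumberTheory.LegendreSymbol.Complex
import Mathlib.LinearAlgebra.Trace
import Mathlib.LinearAlgebra.Matrix.Charpoly.Eigs

/-!
The minimal degree of a faithful complex representation of the small Ree groups. The characters of the
abelian group of the elements (0, u, v) nontrivial on the centre form one orbit under U and the torus; if
nothing else occurs and each occurs once, the involution of the torus has determinant -1, against perfectness.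
-/

set_option autoImplicit false
set_option synthInstance.maxHeartbeats 400000
set_option maxHeartbeats 1600000
set_option maxRecDepth 4000
set_option linter.style.haveILetI false

namespace Cfsg.Agent.Small.TwistAut.G2

open Cfsg Cfsg.Lie Cfsg.Agent.Lie Matrix
open scoped MatrixGroups
open Cfsg.Agent.Lie.G2 (Os Setup)

theorem prod_signs : ∀ s : Multiset ℂ, (∀ r ∈ s, r = 1 ∨ r = -1) →
    ∃ n, n ≤ Multiset.card s ∧ s.prod = (-1) ^ n ∧ s.sum = (Multiset.card s : ℂ) - 2 * n := by
  intro s
  induction s using Multiset.induction with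
  | empty => exact fun _ => ⟨0, le_rfl, by simp, by simp⟩
  | cons a s ih =>
    intro h
    obtain ⟨n, hn, hp, hs⟩ := ih fun r hr => h r (Multiset.mem_cons_of_mem hr)
    rcases h a (Multiset.mem_cons_self _ _) with rfl | rfl
    · exact ⟨n, by simp; omega, by simp [hp], by simp [hs]; ring⟩
    · exact ⟨n + 1, by simp; omega, by simp [hp, pow_succ], by simp [hs]; ring⟩

/-- An involutive matrix with trace zero of size 2r, r odd, has determinant -1. -/
theorem det_involution {k r : ℕ} (hk : k = 2 * r) (hr : Odd r) (M : Matrix (Fin k) (Fin k) ℂ) (hM : M * M = 1)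
    (ht : M.trace = 0) : M.det = -1 := by
  haveI : Nonempty (Fin k) := ⟨⟨0, by obtain ⟨j, hj⟩ := hr; omega⟩⟩
  have hroots : ∀ x ∈ M.charpoly.roots, x = 1 ∨ x = -1 := fun x hx => by
    have h1 : x ∈ spectrum ℂ M := Matrix.mem_spectrum_iff_isRoot_charpoly.2 (Polynomial.isRoot_of_mem_roots hx)
    have h2 := spectrum.pow_mem_pow M 2 h1
    rw [pow_two M, hM, spectrum.one_eq, Set.mem_singleton_iff] at h2
    exact sq_eq_one_iff.1 h2
  obtain ⟨n, -, hp, hs⟩ := prod_signs _ hroots
  have hcard : Multiset.card M.charpoly.roots = k := by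
    rw [IsAlgClosed.card_roots_eq_natDegree, Matrix.charpoly_natDegree_eq_dim, Fintype.card_fin]
  rw [← Matrix.trace_eq_sum_roots_charpoly, ht, hcard] at hs
  have hn : n = r := by
    have : ((k : ℕ) : ℂ) = ((2 * n : ℕ) : ℂ) := by push_cast; linear_combination -hs
    have := Nat.cast_injective this
    omega
  rw [Matrix.det_eq_prod_roots_charpoly, hp, hn, hr.neg_one_pow]

variable {K : Type*} [Field K] [Fintype K] {m : ℕ} (S : Setup K m)

include S in
/-- The minimal degree of a faithful representation. -/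
theorem min_degree (hm : 1 ≤ m) {k : ℕ} (ρ : ↥S.data.G1 →* Module.End ℂ (Fin k → ℂ))
    (hρ : Function.Injective ρ) : Fintype.card K ^ 2 - Fintype.card K + 1 ≤ k := by
  classical
  obtain ⟨ψ, hψ⟩ : ∃ ψ : AddChar K ℂ, ψ.IsPrimitive :=
    ⟨_, AddChar.FiniteField.primitiveChar_to_Complex_isPrimitive K⟩
  set q := Fintype.card K with hq
  have hq0 : (q : ℂ) ≠ 0 := by rw [hq]; exact_mod_cast Fintype.card_ne_zero
  set s := 3 * 3 ^ m with hs
  have h0 : (0 : K) ^ s = 0 := zero_pow (by positivity)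
  -- the abelian group
  let A : K × K → ↥S.data.G1 := fun a => P S 0 a.1 a.2
  have hA : ∀ a b, A a * A b = A (a + b) := fun a b => by
    simp only [A, P_mul, ← hs, h0, Prod.fst_add, Prod.snd_add]
    congr 1 <;> ring
  have hA0 : A 0 = 1 := P_zero S
  obtain ⟨R, hR⟩ : ∃ R : K × K → Module.End ℂ (Fin k → ℂ), ∀ a, R a = ρ (A a) := ⟨_, fun _ => rfl⟩
  have hRmul : ∀ a b, R a * R b = R (a + b) := fun a b => by rw [hR, hR, hR, ← map_mul, hA]
  have hR0 : R 0 = 1 := by rw [hR, hA0, map_one]
  -- its characters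
  obtain ⟨χ, hχ⟩ : ∃ χ : K × K → K × K → ℂ, ∀ p a, χ p a = ψ (p.1 * a.1 + p.2 * a.2) := ⟨_, fun _ _ => rfl⟩
  have hχadd : ∀ p a b, χ p (a + b) = χ p a * χ p b := fun p a b => by
    rw [hχ, hχ, hχ, ← AddChar.map_add_eq_mul, Prod.fst_add, Prod.snd_add]
    congr 1; ring
  have hχsub : ∀ p p' a, χ p (-a) * χ p' a = χ (p' - p) a := fun p p' a => by
    rw [hχ, hχ, hχ, ← AddChar.map_add_eq_mul, Prod.fst_neg, Prod.snd_neg, Prod.fst_sub, Prod.snd_sub]
    congr 1; ring
  have hχsymm : ∀ p a, χ p a = χ a p := fun p a => by rw [hχ, hχ]; congr 1; ring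
  have hχ0 : ∀ p, χ p 0 = 1 := fun p => by rw [hχ]; simp
  have horth : ∀ p, ∑ a, χ p a = if p = 0 then (q : ℂ) ^ 2 else 0 := fun p => by
    calc ∑ a, χ p a = (∑ x : K, ψ (x * p.1)) * ∑ y : K, ψ (y * p.2) := by
          rw [Fintype.sum_mul_sum, Fintype.sum_prod_type]
          refine Finset.sum_congr rfl fun x _ => Finset.sum_congr rfl fun y _ => ?_
          rw [hχ, ← AddChar.map_add_eq_mul]
          congr 1; ring
      _ = _ := by
          rw [AddChar.sum_mulShift _ hψ, AddChar.sum_mulShift _ hψ]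
          obtain ⟨d, c⟩ := p
          by_cases hd : d = 0 <;> by_cases hc : c = 0 <;> simp [hd, hc, pow_two, Prod.ext_iff, hq]
  -- the projections
  obtain ⟨E, hE⟩ : ∃ E : K × K → Module.End ℂ (Fin k → ℂ),
      ∀ p, E p = ((q : ℂ) ^ 2)⁻¹ • ∑ a, χ p (-a) • R a := ⟨_, fun _ => rfl⟩
  have hRE : ∀ p c, R c * E p = χ p c • E p := fun p c => by
    have hsum : ∑ a, R c * (χ p (-a) • R a) = ∑ a, χ p c • (χ p (-a) • R a) := by
      refine Fintype.sum_equiv (Equiv.addLeft c) _ _ fun a => ?_
      show R c * (χ p (-a) • R a) = χ p c • (χ p (-(c + a)) • R (c + a))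
      rw [mul_smul_comm, hRmul, smul_smul, ← hχadd]
      congr 2; abel
    rw [hE, mul_smul_comm, Finset.mul_sum, hsum, ← Finset.smul_sum, smul_comm]
  have hEE : ∀ p p', E p * E p' = if p = p' then E p else 0 := fun p p' => by
    nth_rewrite 1 [hE]
    rw [smul_mul_assoc, Finset.sum_mul]
    simp only [smul_mul_assoc, hRE, smul_smul, hχsub]
    rw [← Finset.sum_smul, horth, smul_smul]
    by_cases h : p = p'
    · subst h; simp [hq0]
    · rw [if_neg (sub_ne_zero.2 (Ne.symm h)), if_neg h, mul_zero, zero_smul]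
  have hEsum : ∑ p, E p = 1 := by
    simp only [hE, ← Finset.smul_sum]
    rw [Finset.sum_comm]
    have hinner : ∀ a, ∑ p, χ p (-a) • R a = if a = 0 then (q : ℂ) ^ 2 • (1 : Module.End ℂ (Fin k → ℂ)) else 0 :=
      fun a => by
        rw [← Finset.sum_smul, show ∑ p, χ p (-a) = ∑ p, χ (-a) p from Finset.sum_congr rfl fun p _ => hχsymm p _,
          horth]
        by_cases ha : a = 0
        · rw [if_pos (by simp [ha]), if_pos ha, ha, hR0]
        · rw [if_neg (by simp [ha]), if_neg ha, zero_smul]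
    simp only [hinner]
    rw [Finset.sum_ite_eq' Finset.univ, if_pos (Finset.mem_univ _), smul_smul,
      inv_mul_cancel₀ (pow_ne_zero _ hq0), one_smul]
  obtain ⟨r, hr⟩ : ∃ r : K × K → ℕ, ∀ p, r p = Module.finrank ℂ (LinearMap.range (E p)) := ⟨_, fun _ => rfl⟩
  have hrt : ∀ p, LinearMap.trace ℂ _ (E p) = (r p : ℂ) := fun p => by
    have hp : LinearMap.IsProj (LinearMap.range (E p)) (E p) := by
      refine ⟨fun x => LinearMap.mem_range_self _ x, ?_⟩
      rintro _ ⟨x, rfl⟩
      have := hEE p p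
      rw [if_pos rfl] at this
      exact LinearMap.congr_fun this x
    rw [hp.trace, hr]
  have hk : k = ∑ p, r p := by
    apply Nat.cast_injective (R := ℂ)
    push_cast
    simp only [← hrt]
    rw [← map_sum, hEsum, LinearMap.trace_one, Module.finrank_fin_fun]
  -- normalising elements permute the projections
  have hconj : ∀ (g : ↥S.data.G1) (φ : K × K ≃ K × K) (p p' : K × K),
      (∀ a, g * A a * g⁻¹ = A (φ a)) → (∀ a, χ p (-a) = χ p' (-φ a)) → ρ g * E p * ρ g⁻¹ = E p' := by
    intro g φ p p' hg hp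
    rw [hE, hE, mul_smul_comm, smul_mul_assoc, Finset.mul_sum, Finset.sum_mul]
    congr 1
    refine Fintype.sum_equiv φ _ _ fun a => ?_
    rw [mul_smul_comm, smul_mul_assoc, hp, hR, hR, ← map_mul, ← map_mul, hg]
  have hrconj : ∀ (g : ↥S.data.G1) (p p' : K × K), ρ g * E p * ρ g⁻¹ = E p' → r p = r p' := by
    intro g p p' h
    have e : LinearMap.trace ℂ _ (E p') = LinearMap.trace ℂ _ (E p) := by
      rw [← h, LinearMap.trace_mul_comm, ← mul_assoc, ← map_mul, inv_mul_cancel, map_one, one_mul]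
    rw [hrt, hrt] at e
    exact (Nat.cast_injective e).symm
  have hMne : ∀ z : Kˣ, (z : K) ^ s * (z : K)⁻¹ ≠ 0 := fun z =>
    mul_ne_zero (pow_ne_zero _ z.ne_zero) (inv_ne_zero z.ne_zero)
  have hTz : ∀ (z : Kˣ) (p : K × K),
      ρ (tz S z) * E (p.1 * ((z : K) ^ s * (z : K)⁻¹), p.2 * (z : K)) * ρ (tz S z)⁻¹ = E p := fun z p => by
    refine hconj (tz S z) (Equiv.prodCongr (Equiv.mulLeft₀ _ (hMne z)) (Equiv.mulLeft₀ _ z.ne_zero)) _ _
      (fun a => ?_) fun a => ?_
    · simp only [A, tz_conj, ← hs, mul_zero, Equiv.prodCongr_apply, Prod.map, Equiv.mulLeft₀_apply]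
    · rw [hχ, hχ]
      simp only [Equiv.prodCongr_apply, Prod.map, Equiv.mulLeft₀_apply, Prod.fst_neg, Prod.snd_neg]
      congr 1; ring
  have hTu : ∀ (t : K) (p : K × K),
      ρ (P S t 0 0) * E (p.1 + p.2 * t, p.2) * ρ (P S t 0 0)⁻¹ = E p := fun t p => by
    let φ : K × K ≃ K × K :=
      { toFun := fun a => (a.1, a.2 + t * a.1)
        invFun := fun a => (a.1, a.2 - t * a.1)
        left_inv := fun a => by simp
        right_inv := fun a => by simp }
    refine hconj (P S t 0 0) φ _ _ (fun a => ?_) fun a => ?_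
    · rw [mul_inv_eq_iff_eq_mul]
      simp only [A, φ, Equiv.coe_fn_mk, P_mul, ← hs, h0]
      congr 1 <;> ring
    · rw [hχ, hχ]
      simp only [φ, Equiv.coe_fn_mk, Prod.fst_neg, Prod.snd_neg]
      congr 1; ring
  have horbit : ∀ d c, c ≠ 0 → r (d, c) = r (0, 1) := fun d c hc => by
    have h1 : r (0, c) = r (d, c) := by
      have := hrconj _ _ _ (hTu (-d / c) (d, c))
      simpa [mul_div_cancel₀ _ hc] using this
    have h2 : r (0, c) = r (0, 1) := by
      have := hrconj _ _ _ (hTz (Units.mk0 c hc) (0, 1))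
      simpa using this
    omega
  have hsplit : k = (q - 1) * q * r (0, 1) + ∑ d, r (d, 0) := by
    rw [hk, Fintype.sum_prod_type_right, ← Finset.add_sum_erase _ _ (Finset.mem_univ (0 : K)), add_comm]
    congr 1
    rw [Finset.sum_congr rfl fun c hc => Finset.sum_congr rfl fun d _ =>
      horbit d c (Finset.ne_of_mem_erase hc)]
    simp only [Finset.sum_const, Finset.card_univ, Finset.card_erase_of_mem (Finset.mem_univ _), smul_eq_mul, ← hq]
    ring
  have hq3 : q = 3 ^ (2 * m + 1) := by rw [hq, ← Nat.card_eq_fintype_card, S.hK]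
  have hq2 : 3 ≤ q := by rw [hq3]; exact Nat.le_self_pow (by omega) 3
  have hr0 : 1 ≤ r (0, 1) := by
    by_contra h
    have h1 : R (0, 1) = 1 := by
      rw [← mul_one (R (0, 1)), ← hEsum, Finset.mul_sum]
      refine Finset.sum_congr rfl fun p _ => ?_
      rw [hRE]
      obtain ⟨d, c⟩ := p
      by_cases hc : c = 0
      · rw [hχ]; simp [hc]
      · have : r (d, c) = 0 := by rw [horbit d c hc]; omega
        rw [hr, Submodule.finrank_eq_zero, LinearMap.range_eq_bot] at this
        rw [this, smul_zero]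
    rw [hR, ← map_one ρ] at h1
    exact one_ne_zero (P_inj S ((hρ h1).trans (P_zero S).symm)).2.2
  have hqq : (q - 1) * q = q ^ 2 - q := by rw [Nat.sub_mul, one_mul, pow_two]
  have hle : q ≤ q ^ 2 := Nat.le_self_pow two_ne_zero q
  by_contra hlt
  have hz : (∑ d, r (d, 0)) = 0 ∧ r (0, 1) = 1 := by
    rw [hqq] at hsplit
    constructor
    · have : q ^ 2 - q ≤ (q ^ 2 - q) * r (0, 1) := Nat.le_mul_of_pos_right _ hr0
      omega
    · by_contra h1
      have : (q ^ 2 - q) * 2 ≤ (q ^ 2 - q) * r (0, 1) := Nat.mul_le_mul_left _ (by omega)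
      have h9 : 3 * q ≤ q ^ 2 := by rw [pow_two]; exact Nat.mul_le_mul_right q hq2
      omega
  rw [hz.1, hz.2, mul_one, add_zero] at hsplit
  -- the involution of the torus
  set J := ρ (tz S (-1)) with hJ
  have hodd : Odd s := odd_s S
  have hJJ : J * J = 1 := by rw [hJ, ← map_mul, ← map_mul, neg_one_mul, neg_neg, map_one, map_one]
  have hJinv : ρ (tz S (-1))⁻¹ = J := by rw [← map_inv, show (-1 : Kˣ)⁻¹ = -1 by simp, hJ]
  have hJE : ∀ d c, J * E (d, -c) = E (d, c) * J := fun d c => by
    have h := hTz (-1) (d, c)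
    simp only [Units.val_neg, Units.val_one, hodd.neg_one_pow, inv_neg, inv_one, neg_mul_neg, one_mul, mul_one,
      mul_neg] at h
    rw [hJinv, ← hJ] at h
    rw [neg_neg] at h
    rw [← h, mul_assoc, hJJ, mul_one]
  have htr : LinearMap.trace ℂ _ J = 0 := by
    rw [← mul_one J, ← hEsum, Finset.mul_sum, map_sum]
    refine Finset.sum_eq_zero fun p _ => ?_
    obtain ⟨d, c⟩ := p
    by_cases hc : c = 0
    · have h1 : r (d, c) = 0 := by
        rw [hc]; exact Finset.sum_eq_zero_iff.1 hz.1 d (Finset.mem_univ _)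
      rw [hr, Submodule.finrank_eq_zero, LinearMap.range_eq_bot] at h1
      rw [h1, mul_zero, map_zero]
    · have hne : (d, -c) ≠ (d, c) := fun h => hc (by
        have h' := (Prod.ext_iff.1 h).2
        exact (mul_eq_zero.1 (by linear_combination -h' : (2 : K) * c = 0)).resolve_left (two_ne S))
      have hdc : J * E (d, c) = E (d, -c) * J := by
        have := hJE d (-c)
        rwa [neg_neg] at this
      calc LinearMap.trace ℂ _ (J * E (d, c)) = LinearMap.trace ℂ _ ((J * E (d, c)) * E (d, c)) := by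
            rw [mul_assoc, hEE, if_pos rfl]
        _ = LinearMap.trace ℂ _ (E (d, c) * (E (d, -c) * J)) := by rw [LinearMap.trace_mul_comm, hdc]
        _ = 0 := by rw [← mul_assoc, hEE, if_neg (Ne.symm hne), zero_mul, map_zero]
  have hdet : LinearMap.det J = 1 := by
    let f : ↥S.data.G1 →* ℂ := LinearMap.det.comp ρ
    have h1 : commutator ↥S.data.G1 ≤ f.toHomUnits.ker := Abelianization.commutator_subset_ker _
    rw [show commutator ↥S.data.G1 = ⊤ from S.perfect hm] at h1
    exact congrArg Units.val (MonoidHom.mem_ker.1 (h1 (Subgroup.mem_top (tz S (-1)))))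
  obtain ⟨j, hj⟩ : ∃ j, (q - 1) = 2 * j := by
    have : Odd q := hq3 ▸ (Nat.odd_iff.2 (by norm_num : 3 % 2 = 1)).pow
    obtain ⟨i, hi⟩ := this
    exact ⟨i, by omega⟩
  have hjodd : Odd (j * q) := by
    have h4 : q % 4 = 3 := by rw [hq]; exact S.card_mod_four
    exact (Nat.odd_iff.2 (by omega)).mul (Nat.odd_iff.2 (by omega))
  have hM := det_involution (r := j * q) (by rw [hsplit, hj, mul_assoc]) hjodd (LinearMap.toMatrix' J)
    (by rw [← LinearMap.toMatrix'_mul, hJJ, LinearMap.toMatrix'_one])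
    (by rw [← htr, LinearMap.trace_eq_matrix_trace ℂ (Pi.basisFun ℂ (Fin k)), LinearMap.toMatrix_eq_toMatrix'])
  rw [LinearMap.det_toMatrix', hdet] at hM
  norm_num at hM

end Cfsg.Agent.Small.TwistAut.G2
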