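import Cfsg.Agent.Lib.Small.TwistAut.G2
import Cfsg.Agent.Lib.Small.TwistAut.F4

/-!
The Ree groups are generated by two elements: a torus element and the longest monomial element times a
unipotent element.
-/

set_option autoImplicit false
set_option synthInstance.maxHeartbeats 400000
set_option maxHeartbeats 1600000
set_option maxRecDepth 4000
set_option linter.style.haveILetI false

namespace Cfsg.Agent.Small.TwistAut

open Cfsg Cfsg.Lie Cfsg.Agent.Lie Matrix
open scoped MatrixGroups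

/-- A word for the longest element acting as minus one on the torus. -/
def okMinus (D : ChevalleyDatum) (l : List (Fin D.rank)) : Bool :=
  ((Facts.posL D).all fun r => decide (actR D (l.map Fin.val) r < D.nroots / 2)) &&
  (List.finRange D.rank).all fun i => (List.finRange D.rank).all fun k =>
    decide (D.cartan k.val (actR D (l.map Fin.val) (D.simple i.val)) = -D.cartan k.val (D.simple i.val))

variable {D : ChevalleyDatum} {F : Type*} [Field F] {hF : Facts D}

/-- The longest monomial elements invert the torus. -/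
theorem n0_inverts {l : List (Fin D.rank)} (h : okMinus D l = true) {a : GL D.Idx F}
    (ha : a ∈ (hF.tsys F).H) (c : Fin D.rank → Fˣ) :
    (a * (hF.tsys F).nW (ChevAut.w0 hF))⁻¹ * torus D F c * (a * (hF.tsys F).nW (ChevAut.w0 hF)) =
      (torus D F c)⁻¹ := by
  simp only [okMinus, Bool.and_eq_true, List.all_eq_true, decide_eq_true_eq] at h
  have hw : hF.refSys.pr l = ChevAut.w0 hF := by
    refine eq_w0 fun x hx => ?_
    have hp : D.nroots / 2 ≤ x.val := by simpa [Facts.refSys] using hx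
    have h1 := h.1 x.val (Facts.mem_posL.2 ⟨hp, x.isLt⟩)
    rw [← Facts.pr_smul_val (hF := hF)] at h1
    simpa [Facts.refSys] using h1
  have e := hF.torus_conj_nW ha (ChevAut.w0 hF) c c⁻¹ fun i => by
    rw [ChevAut.w0_inv hF, ← hw, Facts.pr_smul_val]
    have hi : (hF.refSys.α i).val = D.simple i.val := rfl
    rw [hi, torChar, torChar]
    refine Finset.prod_congr rfl fun k _ => ?_
    rw [h.2 i (List.mem_finRange i) k (List.mem_finRange k), Pi.inv_apply, _root_.zpow_neg, _root_.inv_zpow]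
  rw [map_inv] at e
  calc (a * (hF.tsys F).nW (ChevAut.w0 hF))⁻¹ * torus D F c * (a * (hF.tsys F).nW (ChevAut.w0 hF))
      = ((a * (hF.tsys F).nW (ChevAut.w0 hF))⁻¹ * (torus D F c)⁻¹ * (a * (hF.tsys F).nW (ChevAut.w0 hF)))⁻¹ := by
        group
    _ = _ := by
      congr 1
      rw [← e]
      group

namespace G2

open Cfsg.Agent.Lie.G2 (Os Setup)

/-- A longest word. -/
def longG2 : List (Fin chevG2.rank) := fnodes chevG2 [0, 1, 0, 1, 0, 1]

theorem okMinus_G2 : okMinus chevG2 longG2 = true := by decide +kernel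

variable {K : Type*} [Field K] [Fintype K] {m : ℕ} (S : Setup K m)

include S in
theorem two_gen (hm : 1 ≤ m) :
    ∃ a b : ↥(twistedG2 K (3 ^ m)), Subgroup.closure ({a, b} : Set ↥(twistedG2 K (3 ^ m))) = ⊤ := by
  obtain ⟨z0, hz0⟩ := IsCyclic.exists_generator (α := Kˣ)
  obtain ⟨a0, ha0, n, hn, -⟩ := exists_n0 S.data
  refine ⟨tz S z0, n * P S 1 0 0, ?_⟩
  set D0 := Subgroup.closure ({tz S z0, n * P S 1 0 0} : Set ↥S.data.G1) with hD0
  show D0 = ⊤
  have hA : tz S z0 ∈ D0 := Subgroup.subset_closure (Set.mem_insert _ _)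
  have hB : n * P S 1 0 0 ∈ D0 := Subgroup.subset_closure (Set.mem_insert_of_mem _ rfl)
  have hT : ∀ z, tz S z ∈ D0 := fun z => by
    obtain ⟨k, rfl⟩ := Subgroup.mem_zpowers_iff.1 (hz0 z)
    rw [map_zpow]
    exact zpow_mem hA k
  set s := 3 * 3 ^ m with hs
  have h0 : (0 : K) ^ s = 0 := zero_pow (by positivity)
  have hinv : ∀ z, n⁻¹ * tz S z * n = (tz S z)⁻¹ := fun z => Subtype.ext (by
    rw [Subgroup.coe_mul, Subgroup.coe_mul, Subgroup.coe_inv, Subgroup.coe_inv, hn]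
    exact n0_inverts okMinus_G2 ha0 _)
  set L : K := (z0 : K) ^ 2 * ((z0 : K) ^ s)⁻¹ with hL
  have hL1 : (1 : K) - L ≠ 0 := by
    intro h
    have h1 : L = 1 := (sub_eq_zero.1 h).symm
    have e : tz S z0 * P S 1 0 0 * (tz S z0)⁻¹ = P S 1 0 0 := by
      rw [tz_conj, ← hs, ← hL, h1, mul_one, mul_zero, mul_zero]
    have hz1 : z0 = 1 := eq_one_of_ne S hm (fun h' => one_ne_zero h'.1) e
    obtain ⟨x, hx⟩ := exists_moved S hm
    have hx0 : x ≠ 0 := by rintro rfl; exact hx (zero_pow (by positivity))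
    obtain ⟨k, hk⟩ := Subgroup.mem_zpowers_iff.1 (hz0 (Units.mk0 x hx0))
    rw [hz1, _root_.one_zpow] at hk
    exact hx (by rw [← show (1 : K) = x from congrArg Units.val hk, one_pow])
  obtain ⟨u0, v0, hi⟩ : ∃ u v, (P S 1 0 0)⁻¹ = P S (-1) u v := by
    obtain ⟨u, v, h⟩ := S.N3_inv (1 : K) 0 0
    exact ⟨u, v, Subtype.ext h⟩
  obtain ⟨u1, v1, hx⟩ : ∃ u v, P S (1 - L) u v ∈ D0 := by
    have h := mul_mem hA (mul_mem (mul_mem (inv_mem hB) hA) hB)
    rw [show tz S z0 * ((n * P S 1 0 0)⁻¹ * tz S z0 * (n * P S 1 0 0)) =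
        tz S z0 * ((P S 1 0 0)⁻¹ * (n⁻¹ * tz S z0 * n) * P S 1 0 0) by group, hinv, hi,
      show tz S z0 * (P S (-1) u0 v0 * (tz S z0)⁻¹ * P S 1 0 0) =
        tz S z0 * P S (-1) u0 v0 * (tz S z0)⁻¹ * P S 1 0 0 by group, tz_conj, P_mul, ← hs, ← hL] at h
    exact ⟨_, _, by convert h using 2; ring⟩
  have ht : ∀ t, ∃ u v, P S t u v ∈ D0 := fun t => by
    by_cases ht : t = 0
    · exact ⟨0, 0, by rw [ht, P_zero]; exact one_mem _⟩
    set w := Units.mk0 (t / (1 - L)) (div_ne_zero ht hL1) with hw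
    have h := mul_mem (mul_mem (hT (w ^ (s + 2))) hx) (inv_mem (hT (w ^ (s + 2))))
    rw [tz_conj, ← hs] at h
    have e : ((w ^ (s + 2) : Kˣ) : K) ^ 2 * (((w ^ (s + 2) : Kˣ) : K) ^ s)⁻¹ * (1 - L) = t := by
      have hd : t / (1 - L) ≠ 0 := div_ne_zero ht hL1
      rw [Units.val_pow_eq_pow_val, hw, Units.val_mk0]
      have e1 : ((t / (1 - L)) ^ (s + 2)) ^ s = (t / (1 - L)) ^ 3 * (t / (1 - L)) ^ s * (t / (1 - L)) ^ s := by
        rw [pow_add, mul_pow, pow_s_s S, pow_two, mul_pow]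
        ring
      rw [e1, pow_add]
      field_simp
    rw [e] at h
    exact ⟨_, _, h⟩
  have hZ : ∀ v, P S 0 0 v ∈ D0 := fun v => by
    by_cases hv : v = 0
    · rw [hv, P_zero]; exact one_mem _
    obtain ⟨u, w, h⟩ := ht 1
    have h3 := mul_mem (mul_mem h h) h
    rw [show P S 1 u w * P S 1 u w * P S 1 u w = P S 0 0 (-1) from Subtype.ext ((S.N3_cube 1 u w).trans (by
      simp only [one_pow, mul_one]; rfl))] at h3
    have h4 := mul_mem (mul_mem (hT (Units.mk0 (-v) (neg_ne_zero.2 hv))) h3)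
      (inv_mem (hT (Units.mk0 (-v) (neg_ne_zero.2 hv))))
    rw [tz_conj, mul_zero, mul_zero, Units.val_mk0, neg_mul_neg, mul_one] at h4
    exact h4
  have hneg : ∀ {u}, (∃ v, P S 0 u v ∈ D0) → ∃ v, P S 0 (-u) v ∈ D0 := fun {u} ⟨v, h⟩ => by
    refine ⟨-v, ?_⟩
    have e : (P S 0 u v)⁻¹ = P S 0 (-u) (-v) := by
      rw [inv_eq_iff_mul_eq_one, P_mul, ← hs, h0, ← P_zero S]
      congr 1 <;> ring
    rw [← e]
    exact inv_mem h
  have hscale : ∀ (w : Kˣ) {u}, (∃ v, P S 0 u v ∈ D0) → ∃ v, P S 0 ((w : K) ^ s * (w : K) * u) v ∈ D0 :=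
    fun w {u} ⟨v, h⟩ => by
    have h1 := mul_mem (mul_mem (hT (w ^ (s + 2))) h) (inv_mem (hT (w ^ (s + 2))))
    rw [tz_conj, ← hs, mul_zero] at h1
    have e : ((w ^ (s + 2) : Kˣ) : K) ^ s * (((w ^ (s + 2) : Kˣ) : K))⁻¹ = (w : K) ^ s * (w : K) := by
      rw [Units.val_pow_eq_pow_val, pow_add, mul_pow, pow_s_s S, pow_two, mul_pow]
      field_simp
    rw [e] at h1
    exact ⟨_, h1⟩
  obtain ⟨c, hc0, hc⟩ : ∃ c : K, c ≠ 0 ∧ ∃ v, P S 0 c v ∈ D0 := by
    obtain ⟨x, hxm⟩ := exists_moved S hm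
    obtain ⟨u, v, h⟩ := ht x
    obtain ⟨u', v', h'⟩ := ht 1
    obtain ⟨a, b, w, hw⟩ := (mem_U1_iff S).1 (mul_mem (inv_mem
      (mul_mem ((mem_U1_iff S).2 ⟨1, u', v', rfl⟩) ((mem_U1_iff S).2 ⟨x, u, v, rfl⟩)))
      (mul_mem ((mem_U1_iff S).2 ⟨x, u, v, rfl⟩) ((mem_U1_iff S).2 ⟨1, u', v', rfl⟩)) :
      (P S 1 u' v' * P S x u v)⁻¹ * (P S x u v * P S 1 u' v') ∈ U1 S.data)
    rw [inv_mul_eq_iff_eq_mul] at hw
    have hw' := hw
    rw [P_mul, P_mul, P_mul, ← hs] at hw'
    obtain ⟨e1, e2, -⟩ := P_inj S hw'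
    have ha : a = 0 := by linear_combination -e1
    subst ha
    rw [h0, zero_mul, sub_zero, one_pow, one_mul] at e2
    refine ⟨x ^ s - x, sub_ne_zero.2 hxm, w, ?_⟩
    rw [show x ^ s - x = b by linear_combination e2,
      show P S 0 b w = (P S 1 u' v' * P S x u v)⁻¹ * (P S x u v * P S 1 u' v') by rw [hw]; group]
    exact mul_mem (inv_mem (mul_mem h' h)) (mul_mem h h')
  have hu : ∀ u, ∃ v, P S 0 u v ∈ D0 := fun u => by
    by_cases hu : u = 0
    · exact ⟨0, by rw [hu, P_zero]; exact one_mem _⟩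
    set f : Kˣ →* Kˣ := powMonoidHom (s + 1)
    have hsq : ¬ IsSquare (-1 : K) := by
      rw [FiniteField.isSquare_neg_one_iff, S.card_mod_four]
      simp
    have hm1 : (-1 : Kˣ) ∉ f.range := by
      rintro ⟨w, hw⟩
      refine hsq ?_
      obtain ⟨k, hk⟩ := (odd_s S)
      refine ⟨(w : K) ^ (k + 1), ?_⟩
      rw [← pow_add]
      have := congrArg Units.val hw
      simp only [f, powMonoidHom_apply, Units.val_pow_eq_pow_val, Units.val_neg, Units.val_one] at this
      rw [← this, hs, hk]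
      ring_nf
    have hker : Nat.card f.ker ≤ 2 := by
      refine le_trans (Nat.card_le_card_of_injective (fun w : f.ker => (⟨w.1, (mem_rootsOfUnity 2 _).2 ?_⟩ :
        rootsOfUnity 2 K)) fun w w' h => by simp only [Subtype.mk.injEq] at h; exact Subtype.ext h) (card_rootsOfUnity K 2)
      have h1 : (w.1 : K) ^ s * (w.1 : K) = 1 := by
        rw [← pow_succ, ← Units.val_pow_eq_pow_val, show w.1 ^ (s + 1) = 1 from w.2, Units.val_one]
      have h2 := congrArg (· ^ s) h1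
      simp only [mul_pow, pow_s_s S, hs, one_pow] at h2
      exact Units.ext (by
        rw [Units.val_pow_eq_pow_val, Units.val_one]
        linear_combination h2 - (w.1 : K) ^ 2 * h1)
    have hidx : f.range.index = 2 := by
      have h1 := f.range.card_mul_index
      have h2 := f.ker.card_mul_index
      rw [Subgroup.index_ker] at h2
      have hpos : 0 < Nat.card f.range := Nat.card_pos
      have h3 : f.range.index = Nat.card f.ker := by
        refine Nat.eq_of_mul_eq_mul_left hpos ?_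
        rw [h1, ← h2, mul_comm]
      have h4 : f.range.index ≠ 1 := fun h => hm1 (by rw [Subgroup.index_eq_one.1 h]; exact Subgroup.mem_top _)
      have h5 : 0 < Nat.card f.ker := Nat.card_pos
      omega
    have key : ∀ y ∈ f.range, ∃ v, P S 0 ((y : K) * c) v ∈ D0 := by
      rintro _ ⟨w, rfl⟩
      obtain ⟨v, hv⟩ := hscale w hc
      exact ⟨v, by simpa [f, pow_succ, mul_assoc] using hv⟩
    set y := Units.mk0 (u / c) (div_ne_zero hu hc0) with hy
    have hyu : (y : K) * c = u := by rw [hy, Units.val_mk0, div_mul_cancel₀ _ hc0]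
    by_cases hyr : y ∈ f.range
    · rw [← hyu]; exact key y hyr
    · have hny : -1 * y ∈ f.range := (Subgroup.mul_mem_iff_of_index_two hidx).2 (iff_of_false hm1 hyr)
      have := hneg (key _ hny)
      rwa [Units.val_mul, Units.val_neg, Units.val_one, neg_mul, one_mul, neg_mul, neg_neg, hyu] at this
  have hU : ∀ g ∈ U1 S.data, g ∈ D0 := fun g hg => by
    obtain ⟨t, u, v, rfl⟩ := (mem_U1_iff S).1 hg
    obtain ⟨u', v', h⟩ := ht t
    obtain ⟨w, hw⟩ := hu (u - u')
    have h1 := mul_mem (mul_mem h hw) (hZ (v - (v' + w)))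
    rw [P_mul, P_mul, ← hs, h0] at h1
    convert h1 using 1
    congr 1 <;> ring
  have hnD : n ∈ D0 := by
    have := mul_mem hB (inv_mem (hU _ ((mem_U1_iff S).2 ⟨1, 0, 0, rfl⟩)))
    rwa [mul_inv_cancel_right] at this
  have hV : ∀ g ∈ V1 S.data, g ∈ D0 := fun g hg => by
    have hy : n⁻¹ * g * n ∈ U1 S.data := by
      rw [← (longest_conj S.data ha0 hn).1]; convert hg using 1; group
    have := mul_mem (mul_mem hnD (hU _ hy)) (inv_mem hnD)
    convert this using 1
    group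
  rw [eq_top_iff]
  rintro ⟨g, hg⟩ -
  induction hg using Subgroup.closure_induction with
  | mem x hx =>
    obtain ⟨t, u, v, rfl | rfl⟩ := gens_cases S hx
    · exact hU (P S t u v) ((mem_U1_iff S).2 ⟨t, u, v, rfl⟩)
    · exact hV (Q S t u v) (Q_mem S t u v)
  | one => exact one_mem D0
  | mul x y hx hy ihx ihy => exact mul_mem ihx ihy
  | inv x hx ihx => exact inv_mem ihx

end G2

namespace F4

open Cfsg.Agent.Lie.F4 (Os Setup)

theorem okMinus_F4 : okMinus chevF4 longWord = true := by decide +kernel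

theorem commYW : ([[14, 25], [14, 27], [14, 28], [14, 30], [23, 25], [23, 27], [23, 28], [23, 30]] :
    List (List ℕ)).all (fun L => okComm chevF4 L) = true := by decide +kernel

variable {K : Type*} [Field K] [Fintype K] {m : ℕ} (S : Setup K m)

omit [Fintype K] in
theorem pair_comm {r s : ℕ} (hr : r = 14 ∨ r = 23) (hs : s ∈ ([25, 27, 28, 30] : List ℕ)) (x y : K) :
    Commute (factsF4.xg r x) (factsF4.xg s y) := by
  refine factsF4.xg_commute (L := [r, s]) (List.all_eq_true.1 commYW _ ?_) (by simp) (by simp) x y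
  simp only [List.mem_cons, List.not_mem_nil, or_false] at hs
  rcases hr with rfl | rfl <;> rcases hs with rfl | rfl | rfl | rfl <;> simp

theorem Y_comm_W (s a v : K) : Commute ((RA S).Y s) (W S a v) := by
  have h : ∀ r, r = 14 ∨ r = 23 → ∀ x : K,
      Commute (factsF4.xg r x) (S.w4F 27 25 28 30 a v) := fun r hr x =>
    (((pair_comm hr (by simp) _ _).mul_right (pair_comm hr (by simp) _ _)).mul_right
      (pair_comm hr (by simp) _ _)).mul_right (pair_comm hr (by simp) _ _)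
  refine Subtype.ext ?_
  show ((RA S).Y s : GL chevF4.Idx K) * S.w4F 27 25 28 30 a v = S.w4F 27 25 28 30 a v * ((RA S).Y s : GL chevF4.Idx K)
  rw [(coe_RA S s).2]
  simp only [CommSys.prodOver, Facts.sys_x, List.map_cons, List.map_nil, List.prod_cons, List.prod_nil, mul_one]
  exact ((h 14 (Or.inl rfl) _).mul_left (h 23 (Or.inr rfl) _)).eq

include S in
theorem two_gen (hm : 1 ≤ m) :
    ∃ a b : ↥(twistedF4 K (2 ^ m)), Subgroup.closure ({a, b} : Set ↥(twistedF4 K (2 ^ m))) = ⊤ := by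
  obtain ⟨g0, hg0⟩ := IsCyclic.exists_generator (α := Kˣ)
  obtain ⟨a0, ha0, n, hn, -⟩ := exists_n0 S.data
  -- a torus element centralising the middle root group and cyclic on the pair
  obtain ⟨t, u, hal, hlam⟩ : ∃ t u : Kˣ, al m t u = 1 ∧ lam t u = g0 := by
    let f : Kˣ →* Kˣ := MonoidHom.mk' (fun u => lam (u ^ 2 * (u ^ (2 * 2 ^ m))⁻¹) u) fun x y => by
      simp only [lam, mul_pow, mul_inv, mul_comm, mul_left_comm, mul_assoc]
    have hf : Function.Injective f := by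
      rw [injective_iff_map_eq_one]
      intro u hu
      set t := u ^ 2 * (u ^ (2 * 2 ^ m))⁻¹ with ht
      have hu' : u = t ^ 2 := (mul_inv_eq_one.1 (show t ^ 2 * u⁻¹ = 1 from hu)).symm
      have h1 : u ^ (2 * 2 ^ m) * t = u ^ 2 := by rw [ht, ← mul_assoc, mul_comm _ (u ^ 2), mul_inv_cancel_right]
      obtain ⟨e1, e2⟩ : (u : K) = (t : K) ^ 2 ∧ (u : K) ^ (2 * 2 ^ m) * (t : K) = (u : K) ^ 2 :=
        ⟨by rw [← Units.val_pow_eq_pow_val, ← hu'], by
          rw [← Units.val_pow_eq_pow_val, ← Units.val_mul, h1, Units.val_pow_eq_pow_val]⟩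
      have hcop := S.coprime_exp
      rw [e1] at e2
      set x := (t : K) ^ (2 * 2 ^ m) with hx
      have e3 : x ^ 2 = (t : K) ^ 3 := by
        refine mul_right_cancel₀ t.ne_zero ?_
        rw [show (t : K) ^ 3 * t = ((t : K) ^ 2) ^ 2 by ring, ← e2, hx, ← pow_mul, ← pow_mul, mul_comm 2 (2 * 2 ^ m)]
      have hx2 : x ^ (2 * 2 ^ m) = (t : K) ^ 2 := by
        rw [hx, ← pow_mul (t : K), show 2 * 2 ^ m * (2 * 2 ^ m) = (2 * 2 ^ m * 2 ^ m) * 2 by ring, pow_mul,
          pow_mul, (S.pow_twist (t : K)).2]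
      have e4 := congrArg (· ^ (2 * 2 ^ m)) e3
      rw [pow_right_comm x, hx2, ← pow_mul (t : K) 3, mul_comm 3, pow_mul, ← hx] at e4
      have e5 : (t : K) ^ 4 * (t : K) ^ 4 = (t : K) ^ 9 := by
        calc (t : K) ^ 4 * (t : K) ^ 4 = (((t : K) ^ 2) ^ 2) * (((t : K) ^ 2) ^ 2) := by ring
          _ = x ^ 3 * x ^ 3 := by rw [e4]
          _ = (x ^ 2) ^ 3 := by ring
          _ = _ := by rw [e3]; ring
      have e6 : (t : K) = 1 := mul_left_cancel₀ (pow_ne_zero 8 t.ne_zero) (by linear_combination -e5)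
      exact Units.ext (by rw [e1, e6, one_pow, Units.val_one])
    obtain ⟨u, hu⟩ := (Finite.injective_iff_surjective.1 hf) g0
    exact ⟨_, u, by simp only [al]; group, hu⟩
  refine ⟨tz S t u, n * (W S 1 0 * (RA S).X 1), ?_⟩
  set D0 := Subgroup.closure ({tz S t u, n * (W S 1 0 * (RA S).X 1)} : Set ↥S.data.G1) with hD0
  show D0 = ⊤
  have hA : tz S t u ∈ D0 := Subgroup.subset_closure (Set.mem_insert _ _)
  have hB : n * (W S 1 0 * (RA S).X 1) ∈ D0 := Subgroup.subset_closure (Set.mem_insert_of_mem _ rfl)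
  have hinv : ∀ t u, n⁻¹ * tz S t u * n = (tz S t u)⁻¹ := fun t u => Subtype.ext (by
    rw [Subgroup.coe_mul, Subgroup.coe_mul, Subgroup.coe_inv, Subgroup.coe_inv, hn]
    exact n0_inverts okMinus_F4 ha0 _)
  have hg1 : g0 ≠ 1 := fun h => by
    obtain ⟨z, hz⟩ := S.exists_unit hm
    obtain ⟨k, rfl⟩ := Subgroup.mem_zpowers_iff.1 (hg0 z)
    rw [h, _root_.one_zpow] at hz
    exact hz rfl
  have hW : tz S t u * W S 1 0 * (tz S t u)⁻¹ = W S 1 0 := by
    rw [tz_conj_W, hal, Units.val_one, one_pow, one_mul, one_mul]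
  have hWi : tz S t u * (W S 1 0)⁻¹ * (tz S t u)⁻¹ = (W S 1 0)⁻¹ := by
    rw [show tz S t u * (W S 1 0)⁻¹ * (tz S t u)⁻¹ = (tz S t u * W S 1 0 * (tz S t u)⁻¹)⁻¹ by group, hW]
  have hXs : ∀ s, (RA S).X s ∈ D0 := by
    have h := mul_mem hA (mul_mem (mul_mem (inv_mem hB) hA) hB)
    rw [show tz S t u * ((n * (W S 1 0 * (RA S).X 1))⁻¹ * tz S t u * (n * (W S 1 0 * (RA S).X 1))) =
        tz S t u * (((RA S).X 1)⁻¹ * (W S 1 0)⁻¹ * (n⁻¹ * tz S t u * n) * (W S 1 0 * (RA S).X 1)) by group, hinv,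
      show tz S t u * (((RA S).X 1)⁻¹ * (W S 1 0)⁻¹ * (tz S t u)⁻¹ * (W S 1 0 * (RA S).X 1)) =
        (tz S t u * (RA S).X 1 * (tz S t u)⁻¹)⁻¹ * (tz S t u * (W S 1 0)⁻¹ * (tz S t u)⁻¹) *
          (W S 1 0 * (RA S).X 1) by group, hWi, tz_conj_X, hlam, mul_one, mul_assoc, inv_mul_cancel_left,
      ← R1.X_neg, ← R1.X_add] at h
    have hd : -(g0 : K) + 1 ≠ 0 := fun e => hg1 (Units.ext (by rw [Units.val_one]; linear_combination -e))
    intro s
    by_cases hs : s = 0
    · rw [hs, R1.X_zero]; exact one_mem _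
    obtain ⟨k, hk⟩ := mem_powers_iff_mem_zpowers.2 (hg0 (Units.mk0 (s / (-(g0 : K) + 1)) (div_ne_zero hs hd)))
    have hpow : ∀ k : ℕ, (RA S).X ((g0 : K) ^ k * (-(g0 : K) + 1)) ∈ D0 := by
      intro k
      induction k with
      | zero => simpa using h
      | succ k ih =>
        have h' := mul_mem (mul_mem hA ih) (inv_mem hA)
        rwa [tz_conj_X, hlam, ← mul_assoc, ← pow_succ'] at h'
    have := hpow k
    rwa [show (g0 : K) ^ k = s / (-(g0 : K) + 1) by
      rw [← Units.val_pow_eq_pow_val, show g0 ^ k = _ from hk, Units.val_mk0], div_mul_cancel₀ _ hd] at this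
  have hB' : n * W S 1 0 ∈ D0 := by
    have := mul_mem hB (inv_mem (hXs 1))
    rwa [← mul_assoc n, mul_inv_cancel_right] at this
  have hopp := opp_of_ok (hF := factsF4) okOpp_F4
  have hY : ∀ y ∈ Yo S.data ωA, y ∈ D0 := fun y hy => by
    obtain ⟨r, rfl⟩ := (mem_Yo_iff' S.data condA (φA S) (fun t => ((RA S).X t).2) (fun t => ((RA S).Y t).2)
      (cardA S)).1 hy
    change (RA S).Y r ∈ D0
    have hx : n * (RA S).Y r * n⁻¹ ∈ Xo S.data ωA := by
      rw [← map_Yo_n0 S.data hopp ha0 hn (ω := ωA) condA.mem]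
      exact ⟨_, hy, rfl⟩
    obtain ⟨s, hs⟩ := (mem_Xo_iff S.data condA (φA S) (fun t => ((RA S).X t).2) (fun t => ((RA S).Y t).2)
      (cardA S)).1 hx
    change n * (RA S).Y r * n⁻¹ = (RA S).X s at hs
    have h := mul_mem (mul_mem (inv_mem hB') (hXs s)) hB'
    rw [← hs, show (n * W S 1 0)⁻¹ * (n * (RA S).Y r * n⁻¹) * (n * W S 1 0) =
      (W S 1 0)⁻¹ * ((RA S).Y r * W S 1 0) by group, (Y_comm_W S r 1 0).eq, inv_mul_cancel_left] at h
    exact h
  have hT : ∀ t : Kˣ, tz S t 1 ∈ D0 := fun t => by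
    rw [← RA_h, R1.h, R1.hn, R1.hn]
    exact mul_mem (mul_mem (mul_mem (hXs _) (hY _ (orbR1_Y_mem S.data condA (φA S) _))) (hXs _))
      (mul_mem (mul_mem (hXs _) (hY _ (orbR1_Y_mem S.data condA (φA S) _))) (hXs _))
  have hal' : ∀ t : Kˣ, al m t 1 = t⁻¹ := fun t => by simp [al]
  obtain ⟨c, d, hc, hcd⟩ : ∃ c d : K, c ≠ 0 ∧ W S c d ∈ D0 := by
    have h := mul_mem (hT g0) (mul_mem (mul_mem (inv_mem hB') (hT g0)) hB')
    rw [show tz S g0 1 * ((n * W S 1 0)⁻¹ * tz S g0 1 * (n * W S 1 0)) =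
        tz S g0 1 * ((W S 1 0)⁻¹ * (n⁻¹ * tz S g0 1 * n) * W S 1 0) by group, hinv,
      show tz S g0 1 * ((W S 1 0)⁻¹ * (tz S g0 1)⁻¹ * W S 1 0) =
        (tz S g0 1 * W S 1 0 * (tz S g0 1)⁻¹)⁻¹ * W S 1 0 by group, tz_conj_W, hal', mul_one, mul_zero] at h
    set α : K := ((g0⁻¹ : Kˣ) : K) with hα
    have hi : (W S α 0)⁻¹ = W S α (α ^ 2 ^ m * α) := by
      rw [inv_eq_iff_mul_eq_one, W_mul, ← W_zero S, zero_add,
        show α + α = 0 by linear_combination α * S.h2,
        show α ^ 2 ^ m * α + α ^ 2 ^ m * α = 0 by linear_combination (α ^ 2 ^ m * α) * S.h2]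
    rw [hi, W_mul] at h
    refine ⟨_, _, fun e => ?_, h⟩
    refine hg1 (inv_eq_one.1 (Units.ext ?_))
    rw [← hα, Units.val_one]
    linear_combination e - S.h2
  have hWa : ∀ a, ∃ v, W S a v ∈ D0 := fun a => by
    by_cases ha : a = 0
    · exact ⟨0, by rw [ha, W_zero]; exact one_mem _⟩
    have h := mul_mem (mul_mem (hT (Units.mk0 (a / c) (div_ne_zero ha hc))⁻¹) hcd)
      (inv_mem (hT (Units.mk0 (a / c) (div_ne_zero ha hc))⁻¹))
    rw [tz_conj_W, hal', inv_inv, Units.val_mk0, div_mul_cancel₀ _ hc] at h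
    exact ⟨_, h⟩
  have hWall : ∀ a v, W S a v ∈ D0 := by
    have h0 : (0 : K) ^ 2 ^ m = 0 := zero_pow (by positivity)
    have hZ : ∀ v, W S 0 v ∈ D0 := fun v => by
      by_cases hv : v = 0
      · rw [hv, W_zero]; exact one_mem _
      obtain ⟨r, hr⟩ := (powCoprime S.coprime_exp).surjective ((Units.mk0 v hv) ^ 2)
      have hr' : r ^ (2 * 2 ^ m + 2) = Units.mk0 v hv ^ 2 := hr
      have hrv : (r : K) ^ (2 ^ m + 1) = v := by
        have e : ((r : K) ^ (2 ^ m + 1)) ^ 2 = v ^ 2 := by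
          rw [← pow_mul, show (2 ^ m + 1) * 2 = 2 * 2 ^ m + 2 by ring, ← Units.val_pow_eq_pow_val, hr']
          simp
        have e2 : ((r : K) ^ (2 ^ m + 1) + v) ^ 2 = 0 := by
          linear_combination e + ((r : K) ^ (2 ^ m + 1) * v + v ^ 2) * S.h2
        linear_combination (pow_eq_zero_iff two_ne_zero).1 e2 - v * S.h2
      obtain ⟨w, hw⟩ := hWa r
      have h := mul_mem hw hw
      rw [W_mul, show (r : K) + r = 0 by linear_combination (r : K) * S.h2,
        show w + w + (r : K) ^ 2 ^ m * r = v by rw [← pow_succ, hrv]; linear_combination w * S.h2] at h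
      exact h
    intro a v
    obtain ⟨w, hw⟩ := hWa a
    have h := mul_mem hw (hZ (v + w))
    rwa [W_mul, add_zero, mul_zero, add_zero, show w + (v + w) = v by linear_combination w * S.h2] at h
  have hnD : n ∈ D0 := by
    have := mul_mem hB' (inv_mem (hWall 1 0))
    rwa [mul_inv_cancel_right] at this
  rw [eq_top_iff]
  rintro ⟨g, hg⟩ -
  induction hg using Subgroup.closure_induction with
  | mem x hx =>
    rcases gens_cases S hx with ⟨L, s, rfl | rfl, rfl⟩ | ⟨a, v, rfl | rfl⟩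
    · convert hXs s; exact Subtype.ext (coe_RA S s).1.symm
    · convert hY ((RA S).Y s) (orbR1_Y_mem S.data condA (φA S) s); exact Subtype.ext (coe_RA S s).2.symm
    · exact hWall a v
    · have hy : n * Q S a v * n⁻¹ ∈ Xo S.data ωB := by
        rw [← map_Yo_n0 S.data hopp ha0 hn (ω := ωB) Lie.F4.b2_mem_Os]
        exact ⟨_, Q_mem S a v, rfl⟩
      obtain ⟨a', v', he⟩ := (mem_XoB S).1 hy
      show Q S a v ∈ D0
      rw [show Q S a v = n⁻¹ * W S a' v' * n by rw [← he]; group]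
      exact mul_mem (mul_mem (inv_mem hnD) (hWall a' v')) hnD
  | one => exact one_mem D0
  | mul x y hx hy ihx ihy => exact mul_mem ihx ihy
  | inv x hx ihx => exact inv_mem ihx

end F4

end Cfsg.Agent.Small.TwistAut
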